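import Cfsg.Agent.Lib.Small.D4Torus.Group
import Cfsg.Agent.Lib.Lie.TwistComm

/-!
The centraliser of the central torus of the Levi subgroup.
-/

set_option autoImplicit false
set_option maxRecDepth 4000
set_option linter.unusedSectionVars false

namespace Cfsg.Agent.Small.D4Torus

open Cfsg.Lie Matrix Cfsg.Agent.Lie
open Cfsg.Agent.Lie.D4 (Setup neZero_rank Os ws okPi_ws)
open scoped MatrixGroups

local notation "GD" => GL chevD4.Idx

/-- Exponents of the central torus on a root, as coefficients of 1, q, q². -/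
def eC (r : ℕ) : ℤ × ℤ × ℤ :=
  (2 * chevD4.cartan 0 r + chevD4.cartan 1 r, chevD4.cartan 1 r + 2 * chevD4.cartan 2 r,
    chevD4.cartan 1 r + 2 * chevD4.cartan 3 r)

/-- The value of an exponent. -/
def ev (q : ℕ) (d : ℤ × ℤ × ℤ) : ℤ := d.1 + d.2.1 * q + d.2.2 * q ^ 2

/-- The node word of an element of the twisted Weyl group. -/
def orbN (a : Fin ws.length) : List (Fin chevD4.rank) := orbWord chevD4 Os (ws.get a)

/-- The root action of an element of the twisted Weyl group. -/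
def act (a : Fin ws.length) (r : ℕ) : ℕ := actR chevD4 ((orbN a).map Fin.val) r

/-- Differences of exponents. -/
def dC (a : Fin ws.length) (r : ℕ) : ℤ × ℤ × ℤ :=
  ((eC (act a r)).1 - (eC r).1, (eC (act a r)).2.1 - (eC r).2.1, (eC (act a r)).2.2 - (eC r).2.2)

/-- Exponents which are never a multiple of q³ − 1 for q ≥ 3. -/
def good (d : ℤ × ℤ × ℤ) : Bool :=
  decide (d ≠ (0, 0, 0)) && decide (|d.1| ≤ 6 ∧ |d.2.1| ≤ 6 ∧ |d.2.2| ≤ 6) &&
    [3, 4, 5, 6, 7].all fun q : ℕ => decide (¬ ((q : ℤ) ^ 3 - 1 ∣ ev q d))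

theorem good_ne {d : ℤ × ℤ × ℤ} (h : good d = true) {q : ℕ} (hq : 3 ≤ q) : ¬ ((q : ℤ) ^ 3 - 1 ∣ ev q d) := by
  simp only [good, Bool.and_eq_true, decide_eq_true_eq, List.all_eq_true] at h
  obtain ⟨⟨hne, h0, h1, h2⟩, hs⟩ := h
  rcases Nat.lt_or_ge q 8 with h8 | h8
  · exact hs q (by interval_cases q <;> simp)
  intro hd
  have hq8 : (8 : ℤ) ≤ q := by exact_mod_cast h8
  obtain ⟨d0, d1, d2⟩ := d
  simp only at h0 h1 h2
  have hev : |ev q (d0, d1, d2)| < (q : ℤ) ^ 3 - 1 := by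
    have := abs_le.1 h0; have := abs_le.1 h1; have := abs_le.1 h2
    rw [abs_lt, ev]
    constructor <;> nlinarith
  have h := Int.eq_zero_of_abs_lt_dvd hd hev
  rw [ev] at h
  have := abs_le.1 h0; have := abs_le.1 h1; have := abs_le.1 h2
  simp only at h
  have e2 : d2 = 0 := by
    rcases lt_trichotomy d2 0 with hh | hh | hh
    · nlinarith
    · exact hh
    · nlinarith
  subst e2
  have e1 : d1 = 0 := by
    rcases lt_trichotomy d1 0 with hh | hh | hh
    · nlinarith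
    · exact hh
    · nlinarith
  subst e1
  exact hne (by simp only [Prod.mk.injEq, and_true]; omega)

theorem table_roots : ∀ r : Fin 24, r.val = 14 ∨ r.val = 9 ∨ good (eC r.val) = true := by decide +kernel

theorem table_weyl : ∀ a : Fin ws.length, a.val = 0 ∨ a.val = 1 ∨ ∃ r : Fin 24, good (dC a r.val) = true := by
  decide +kernel

variable {K : Type*} [Field K] [Fintype K] {q : ℕ} (S : Setup K q)

theorem char_z (u : Kˣ) (r : ℕ) :
    torChar chevD4 (S.crd (u ^ 2) (nrm q u)) r = u ^ ev q (eC r) := by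
  rw [torChar_fin]
  show (u ^ 2) ^ chevD4.cartan 0 r * (u * u ^ q * (u ^ q) ^ q) ^ chevD4.cartan 1 r *
    ((u ^ 2) ^ q) ^ chevD4.cartan 2 r * (((u ^ 2) ^ q) ^ q) ^ chevD4.cartan 3 r = _
  simp only [_root_.mul_zpow, ← zpow_natCast, ← _root_.zpow_mul, ← _root_.zpow_add]
  congr 1
  simp only [ev, eC]
  push_cast
  ring

include S in
theorem exists_gen : ∃ u0 : Kˣ, ∀ e : ℤ, u0 ^ e = 1 ↔ (q : ℤ) ^ 3 - 1 ∣ e := by
  obtain ⟨u0, hu0⟩ := IsCyclic.exists_generator (α := Kˣ)
  refine ⟨u0, fun e => ?_⟩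
  rw [← orderOf_dvd_iff_zpow_eq_one, orderOf_eq_card_of_forall_mem_zpowers hu0, Nat.card_units, S.hK,
    Nat.cast_sub (Nat.one_le_pow _ _ (by have := S.hq; omega))]
  push_cast
  rfl

theorem prodOver_filter {L : List ℕ} (p : ℕ → Bool) {c : ℕ → K} (h : ∀ r ∈ L, p r = false → c r = 0) :
    (factsD4.sys K).prodOver L c = (factsD4.sys K).prodOver (L.filter p) c := by
  induction L with
  | nil => rfl
  | cons r L ih =>
    have ih' := ih fun s hs => h s (List.mem_cons_of_mem _ hs)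
    cases hp : p r
    · rw [List.filter_cons_of_neg (by simp [hp])]
      simp only [CommSys.prodOver, List.map_cons, List.prod_cons] at ih' ⊢
      rw [h r List.mem_cons_self hp, Facts.sys_x, factsD4.xg_zero, one_mul, ih']
    · rw [List.filter_cons_of_pos hp]
      simp only [CommSys.prodOver, List.map_cons, List.prod_cons] at ih' ⊢
      rw [ih']

/-- Fixed ordered products have coefficients in the subfield. -/
theorem coef_fix {L : List ℕ} (hcl : ClosedList chevD4 L) {c : ℕ → K}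
    (hL : ∀ r ∈ L, c r ≠ 0 → graphD4a.img r = r ∧ graphD4a.sign r = 1)
    (hf : (factsD4.sys K).prodOver L c ∈ S.T.fix) : ∀ r ∈ L, c r ^ q = c r := by
  have hlt : ∀ r ∈ L, r < 24 := fun r hr => (hcl.mem_pos r hr).2
  have key : ∀ M : List ℕ, (∀ r ∈ M, r ∈ L) → S.T.sig ((factsD4.sys K).prodOver M c) =
      (factsD4.sys K).prodOver M fun r => c r ^ q := by
    intro M
    induction M with
    | nil => intro _; simpa [CommSys.prodOver] using S.T.sig_one
    | cons r M ih =>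
      intro hM
      have ih' := ih fun s hs => hM s (List.mem_cons_of_mem _ hs)
      have hmg := factsD4.prodOver_mem_group M c
      simp only [CommSys.prodOver, List.map_cons, List.prod_cons, Facts.sys_x] at ih' hmg ⊢
      rw [S.T.sig_mul _ (factsD4.xg_mem_group r _) _ hmg, ih']
      congr 1
      have hr := hM r List.mem_cons_self
      by_cases h0 : c r = 0
      · simp only [h0, zero_pow (show q ≠ 0 by have := S.hq; omega), factsD4.xg_zero]
        exact S.T.sig_one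
      · obtain ⟨h1, h2⟩ := hL r hr h0
        rw [S.T.sig_x r (hlt r hr), factsD4.imgX_lt _ (hlt r hr), S.expo_one (hlt r hr), S.hfr, S.hR, h1, h2,
          Int.cast_one, one_mul, pow_one]
  have h := hf.2
  rw [key L fun r hr => hr] at h
  exact fun r hr => factsD4.prodOver_inj hcl h r hr

theorem Os_eq : Os = [[1], [0, 2, 3]] := by decide +kernel

theorem nodes_simple : chevD4.simple 0 = 18 ∧ chevD4.simple 2 = 13 ∧ chevD4.simple 3 = 12 ∧
    chevD4.neg 18 = 5 ∧ chevD4.neg 13 = 10 ∧ chevD4.neg 12 = 11 := by decide +kernel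

include S in
theorem nwOrb_mem (w : List ℕ) : (factsD4.tsys K).nw (orbWord chevD4 Os w) ∈ twistedD4 K q := by
  have hm1 : ((-1 : K)) ^ q = -1 := by rw [← S.hfr, map_neg, map_one]
  induction w with
  | nil => exact one_mem _
  | cons k w ih =>
    rw [orbWord, List.flatMap_cons, TorusSys.nw_append]
    refine mul_mem ?_ ih
    rw [Os_eq]
    match k with
    | 0 =>
      show (factsD4.tsys K).nw [1] ∈ _
      rw [TorusSys.nw_singleton, factsD4.tsys_nS, factsD4.ng_eq]
      show factsD4.xg (chevD4.simple 1) 1 * factsD4.xg (chevD4.neg (chevD4.simple 1)) (-1⁻¹) *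
        factsD4.xg (chevD4.simple 1) 1 ∈ _
      rw [s1.1, s1.2]
      exact mul_mem (mul_mem (S.A_mem (Or.inl rfl) (one_pow q))
        (S.A_mem (Or.inr rfl) (by rw [inv_one, hm1]))) (S.A_mem (Or.inl rfl) (one_pow q))
    | 1 =>
      show (factsD4.tsys K).nw [0, 2, 3] ∈ _
      have e : (factsD4.tsys K).nw [(0 : Fin chevD4.rank), 2, 3] =
          ([18, 13, 12].map fun r => factsD4.ng r (1 : K)).prod := by
        simp only [TorusSys.nw_cons, TorusSys.nw_nil, factsD4.tsys_nS, List.map_cons, List.map_nil,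
          List.prod_cons, List.prod_nil]
        obtain ⟨h0, h2, h3, -⟩ := nodes_simple
        show factsD4.ng (chevD4.simple 0) 1 * (factsD4.ng (chevD4.simple 2) 1 *
          (factsD4.ng (chevD4.simple 3) 1 * 1)) = _
        rw [h0, h2, h3]
      obtain ⟨-, -, -, n1, n2, n3⟩ := nodes_simple
      rw [e, factsD4.prod_ng (by decide) (by decide +kernel)]
      refine mul_mem (mul_mem ?_ ?_) ?_
      · simpa [CommSys.prodOver, Facts.sys_x, D4.Setup.cB] using S.B_mem (Or.inl rfl) (1 : K)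
      · simpa [CommSys.prodOver, Facts.sys_x, D4.Setup.cB, hm1, n1, n2, n3] using S.B_mem (Or.inr rfl) (-1 : K)
      · simpa [CommSys.prodOver, Facts.sys_x, D4.Setup.cB] using S.B_mem (Or.inl rfl) (1 : K)
    | k + 2 => exact one_mem _

/-- The form of an element commuting with the central torus. -/
theorem cent_form {u0 : Kˣ} (hu0 : ∀ e : ℤ, u0 ^ e = 1 ↔ (q : ℤ) ^ 3 - 1 ∣ e) {g : GD K}
    (hg : g ∈ twistedD4 K q) (hz : Commute (zz S u0) g) :
    ∃ (a : Fin ws.length) (t m : Kˣ) (cu cv : ℕ → K), m ^ q = m ∧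
      (∀ r, r < 24 → (q : ℤ) ^ 3 - 1 ∣ ev q (dC a r)) ∧
      (∀ r ∈ Facts.posL chevD4, cu r ≠ 0 → (q : ℤ) ^ 3 - 1 ∣ ev q (eC r)) ∧
      (∀ r ∈ Facts.posL chevD4, cv r ≠ 0 → ((q : ℤ) ^ 3 - 1 ∣ ev q (eC r)) ∧ act a r < 12) ∧
      (factsD4.sys K).prodOver (Facts.posL chevD4) cu ∈ S.T.fix ∧
      (factsD4.sys K).prodOver (Facts.posL chevD4) cv ∈ S.T.fix ∧
      g = (factsD4.sys K).prodOver (Facts.posL chevD4) cu * (tt S t m * (factsD4.tsys K).nw (orbN a)) *
        (factsD4.sys K).prodOver (Facts.posL chevD4) cv := by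
  obtain ⟨w, hw, u, hu, huf, a, ha, hnf, v, hv, hvf, rfl⟩ := S.T.fixed_decomp (S.le_fix hg)
  obtain ⟨z, hzdef⟩ : ∃ z, z = zz S u0 := ⟨_, rfl⟩
  have hzH : z ∈ (factsD4.tsys K).H := by rw [hzdef]; exact tt_mem_H S _ _
  rw [← hzdef] at hz
  obtain ⟨n, hn⟩ : ∃ n, n = a * (factsD4.tsys K).nW w := ⟨_, rfl⟩
  have hu' : z * u * z⁻¹ ∈ (factsD4.tsys K).U :=
    (factsD4.tsys K).H_conj_US hzH TorusSys.posL_lt hu
  have hv' : z * v * z⁻¹ ∈ (factsD4.tsys K).US (TorusSys.invList w) :=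
    (factsD4.tsys K).H_conj_US hzH (fun r hr => (TorusSys.mem_invList.1 hr).1) hv
  obtain ⟨a', ha'eq⟩ : ∃ a', a' = z * a * ((factsD4.tsys K).nW w * z⁻¹ * ((factsD4.tsys K).nW w)⁻¹) := ⟨_, rfl⟩
  have ha' : a' ∈ (factsD4.tsys K).H := by
    rw [ha'eq]; exact mul_mem (mul_mem hzH ha) ((factsD4.tsys K).nW_H (inv_mem hzH))
  have heq : z * u * z⁻¹ * a' * (factsD4.tsys K).nW w * (z * v * z⁻¹) = u * a * (factsD4.tsys K).nW w * v := by
    have e := mul_inv_eq_iff_eq_mul.2 hz.eq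
    rw [ha'eq]
    calc _ = z * (u * (a * (factsD4.tsys K).nW w) * v) * z⁻¹ := by group
      _ = _ := by rw [e]; group
  obtain ⟨-, hb, hve⟩ := factsD4.bruhat_unique
    (mul_mem ((factsD4.tsys K).U_le_B hu') ((factsD4.tsys K).H_le_B ha'))
    (mul_mem ((factsD4.tsys K).U_le_B hu) ((factsD4.tsys K).H_le_B ha)) hv' hv heq
  have hue : z * u * z⁻¹ = u := by
    have h1 : u⁻¹ * (z * u * z⁻¹) = a * a'⁻¹ := by
      rw [inv_mul_eq_iff_eq_mul, ← mul_assoc, ← hb, mul_inv_cancel_right]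
    exact (inv_mul_eq_one.1 (factsD4.U_inter_H (mul_mem (inv_mem hu) hu') (h1 ▸ mul_mem ha (inv_mem ha')))).symm
  have hae : a' = a := by rw [hue] at hb; exact mul_left_cancel hb
  have hnz : z * n * z⁻¹ = n := by
    rw [ha'eq] at hae
    rw [hn]
    conv_rhs => rw [← hae]
    group
  obtain ⟨cu, rfl⟩ := CommSys.exists_prodOver (factsD4.sys K).toCommSys factsD4.closedList_posL hu
  obtain ⟨cI, rfl⟩ := CommSys.exists_prodOver (factsD4.sys K).toCommSys (TorusSys.closed_invList w) hv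
  have hzc : z = torus chevD4 K (S.crd (u0 ^ 2) (nrm q u0)) := hzdef
  have hfixc : ∀ {L : List ℕ}, ClosedList chevD4 L → ∀ c : ℕ → K,
      z * (factsD4.sys K).prodOver L c * z⁻¹ = (factsD4.sys K).prodOver L c →
      ∀ r ∈ L, c r ≠ 0 → (q : ℤ) ^ 3 - 1 ∣ ev q (eC r) := by
    intro L hL c h r hr hne
    rw [hzc, factsD4.torus_conj_prodOver _ fun s hs => (hL.mem_pos s hs).2] at h
    have h1 := factsD4.prodOver_inj hL h r hr
    rw [mul_eq_right₀ hne, Units.val_eq_one, char_z, hu0] at h1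
    exact h1
  have hw' : ∃ b : Fin ws.length, factsD4.refSys.pr (orbN b) = w := by
    obtain ⟨b, hb⟩ := (S.data.piMap_bij okPi_ws).2 ⟨w, hw⟩
    exact ⟨b, congrArg Subtype.val hb⟩
  obtain ⟨b, hbw⟩ := hw'
  have hact : ∀ r : Fin chevD4.nroots, (w • r).val = act b r.val := fun r => by
    rw [← hbw, factsD4.pr_smul_val]; rfl
  have hstab : ∀ r, r < 24 → (q : ℤ) ^ 3 - 1 ∣ ev q (dC b r) := by
    intro r hr
    obtain ⟨e, he, hee⟩ := factsD4.nW_conj (F := K) w ⟨r, hr⟩
    have hlt : act b r < 24 := hact ⟨r, hr⟩ ▸ Fin.isLt _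
    obtain ⟨c, hc⟩ : a ∈ (torus chevD4 K).range := by
      rwa [← factsD4.diagonalSubgroup_eq, ← factsD4.tsys_H]
    have hconj : ∀ t, n * factsD4.xg r t * n⁻¹ =
        factsD4.xg (act b r) ((torChar chevD4 c (act b r) : K) * (e * t)) := fun t => by
      rw [hn, ← hc, show torus chevD4 K c * (factsD4.tsys K).nW w * factsD4.xg r t *
        (torus chevD4 K c * (factsD4.tsys K).nW w)⁻¹ = torus chevD4 K c * ((factsD4.tsys K).nW w *
        factsD4.xg r t * ((factsD4.tsys K).nW w)⁻¹) * (torus chevD4 K c)⁻¹ by group, hee, hact,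
        factsD4.torus_conj c hlt]
    have h : z * (n * factsD4.xg r 1 * n⁻¹) * z⁻¹ = _ := congrArg (fun x => z * x * z⁻¹) (hconj 1)
    rw [show z * (n * factsD4.xg r 1 * n⁻¹) * z⁻¹ =
      (z * n * z⁻¹) * (z * factsD4.xg r 1 * z⁻¹) * (z * n * z⁻¹)⁻¹ by group, hnz, hzc,
      factsD4.torus_conj _ hr, hconj, factsD4.torus_conj _ hlt] at h
    have h1 := factsD4.xg_inj hlt h
    have he0 : e ≠ 0 := left_ne_zero_of_mul_eq_one he
    have h2 : (torChar chevD4 (S.crd (u0 ^ 2) (nrm q u0)) r : K) =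
        torChar chevD4 (S.crd (u0 ^ 2) (nrm q u0)) (act b r) := by
      refine mul_left_cancel₀ (mul_ne_zero (torChar chevD4 c (act b r)).ne_zero he0) ?_
      linear_combination h1
    rw [char_z, char_z] at h2
    have h3 : u0 ^ (ev q (eC (act b r)) - ev q (eC r)) = 1 := by
      rw [_root_.zpow_sub, Units.ext h2, mul_inv_cancel]
    rw [hu0] at h3
    convert h3 using 1
    simp only [ev, dC]
    ring
  obtain ⟨c, hc, hce⟩ := (factsD4.tsys K).nw_eq (ω := orbN b) (w := w) hbw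
  have hnw : (factsD4.tsys K).nw (orbN b) ∈ S.T.fix := S.le_fix (nwOrb_mem S _)
  have hac : a * c⁻¹ ∈ S.T.fix := by
    have := mul_mem hnf (inv_mem hnw)
    rwa [hce, show a * (factsD4.tsys K).nW w * (c * (factsD4.tsys K).nW w)⁻¹ = a * c⁻¹ by group] at this
  obtain ⟨t, m, hm, htm⟩ := S.exists_crd (by rw [← factsD4.tsys_H]; exact mul_mem ha (inv_mem hc)) hac
  classical
  have hinv : TorusSys.invList w = (Facts.posL chevD4).filter fun r => decide (r ∈ TorusSys.invList w) := by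
    conv_lhs => rw [TorusSys.invList]
    refine List.filter_congr fun r hr => decide_eq_decide.2 ?_
    rw [TorusSys.invList, List.mem_filter, decide_eq_true_eq]
    exact ⟨fun h => ⟨hr, h⟩, fun h => h.2⟩
  obtain ⟨cv, hcv⟩ : ∃ cv : ℕ → K, cv = fun r => if r ∈ TorusSys.invList w then cI r else 0 := ⟨_, rfl⟩
  have hveq : (factsD4.sys K).prodOver (Facts.posL chevD4) cv = (factsD4.sys K).prodOver (TorusSys.invList w) cI := by
    rw [prodOver_filter (fun r => decide (r ∈ TorusSys.invList w)) (fun r _ hr => by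
      rw [hcv]; exact if_neg (of_decide_eq_false hr)), ← hinv]
    exact CommSys.prodOver_congr _ fun r hr => by rw [hcv]; exact if_pos hr
  refine ⟨b, t, m, cu, cv, hm, hstab, hfixc factsD4.closedList_posL cu hue, fun r hr hne => ?_, huf, hveq ▸ hvf, ?_⟩
  · have hin : r ∈ TorusSys.invList w := by
      by_contra h
      exact hne (by rw [hcv]; exact if_neg h)
    have hce' : cv r = cI r := by rw [hcv]; exact if_pos hin
    refine ⟨hfixc (TorusSys.closed_invList w) cI hve r hin (hce' ▸ hne), ?_⟩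
    obtain ⟨h, hi⟩ := TorusSys.mem_invList.1 hin
    have h2 := ((RefSystem.mem_inv _).1 hi).2
    rw [← hact ⟨r, h⟩]
    simpa [Facts.refSys, show chevD4.nroots / 2 = 12 from rfl] using h2
  · rw [hveq, show tt S t m = a * c⁻¹ from htm.symm, hce]
    group

/-- Products of the central torus and the image of GL₂ over the subfield. -/
def InLevi (g : GD K) : Prop := ∃ (u : Kˣ) (A : GL (Fin 2) K), A ∈ glk S ∧ g = zz S u * Phi A

theorem InLevi.mul {g g' : GD K} (h : InLevi S g) (h' : InLevi S g') : InLevi S (g * g') := by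
  obtain ⟨u, A, hA, rfl⟩ := h
  obtain ⟨u', A', hA', rfl⟩ := h'
  refine ⟨u * u', A * A', mul_mem hA hA', ?_⟩
  rw [map_mul, map_mul, mul_assoc, ← mul_assoc (Phi A), ← (zz_comm S u' A).eq]
  group

theorem Phi_SL (g : Matrix.SpecialLinearGroup (Fin 2) K) : Phi (Matrix.SpecialLinearGroup.toGL g) = phi K g := by
  have h : Matrix.GeneralLinearGroup.det (Matrix.SpecialLinearGroup.toGL g) = 1 := Units.ext g.2
  rw [Phi_apply, h, map_one, one_mul]
  congr 1
  apply Subtype.ext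
  rw [prt_val, h]
  ext i j
  fin_cases i <;> fin_cases j <;> simp

theorem inLevi_phi {g : Matrix.SpecialLinearGroup (Fin 2) K} (hg : ∀ i j, g.1 i j ^ q = g.1 i j) :
    InLevi S (phi K g) :=
  ⟨1, Matrix.SpecialLinearGroup.toGL g, (mem_glk S).2 hg, by rw [map_one, one_mul, Phi_SL]⟩

theorem inLevi_tt {t m : Kˣ} (hm : m ^ q = m) : InLevi S (tt S t m) := by
  obtain ⟨k, hk⟩ : ∃ k, q + q * q = 2 * k := by
    obtain ⟨k, hk⟩ := Nat.even_mul_succ_self q
    exact ⟨k, by rw [← two_mul] at hk; rw [← hk]; ring⟩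
  obtain ⟨u, hu⟩ : ∃ u : Kˣ, u ^ 2 = t * nrm q t := by
    refine ⟨t ^ (1 + k), ?_⟩
    rw [← pow_mul, show (1 + k) * 2 = 1 + (1 + (q + q * q)) by omega, pow_add, pow_add, pow_add, pow_mul, pow_one, nrm]
    ac_rfl
  obtain ⟨a0, ha0⟩ : ∃ a0, a0 = nrm q t := ⟨_, rfl⟩
  have ha0q : a0 ^ q = a0 := ha0 ▸ nrm_fix S t
  obtain ⟨d, hd⟩ : ∃ d : Kˣ, d = nrm q u * (a0 * m)⁻¹ := ⟨_, rfl⟩
  have hdq : d ^ q = d := by rw [hd, mul_pow, inv_pow, mul_pow, nrm_fix S u, ha0q, hm]
  obtain ⟨A, hA⟩ : ∃ A : GL (Fin 2) K, A.1 = !![((a0 * d⁻¹ : Kˣ) : K), 0; 0, (d : K)] :=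
    ⟨Matrix.GeneralLinearGroup.mkOfDetNeZero _ (by
      rw [Matrix.det_fin_two_of, mul_zero, sub_zero]; exact mul_ne_zero (Units.ne_zero _) d.ne_zero), rfl⟩
  have hdet : Matrix.GeneralLinearGroup.det A = a0 := by
    ext1
    rw [Matrix.GeneralLinearGroup.val_det_apply, hA, Matrix.det_fin_two_of, mul_zero, sub_zero, ← Units.val_mul,
      inv_mul_cancel_right]
  have hfa : ((a0 * d⁻¹ : Kˣ) : K) ^ q = (a0 * d⁻¹ : Kˣ) := by
    rw [← Units.val_pow_eq_pow_val, mul_pow, inv_pow, ha0q, hdq]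
  have hfd : (d : K) ^ q = d := by rw [← Units.val_pow_eq_pow_val, hdq]
  refine ⟨u, A, (mem_glk S).2 fun i j => ?_, ?_⟩
  · rw [hA]
    fin_cases i <;> fin_cases j
    · exact hfa
    · exact zero_pow (by have := S.hq; omega)
    · exact zero_pow (by have := S.hq; omega)
    · exact hfd
  · rw [Phi_apply, hdet, del_eq S ha0q, phi_diag d⁻¹ _ (by rw [prt_val, hA]; simp) (by rw [prt_val, hA]; simp)
      (by rw [prt_val, hA, hdet]; simp), torus_single_eq S, zz_apply, tt_mul, tt_mul, hu, ← ha0, mul_one,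
      mul_inv_cancel_right, hd]
    congr 1
    rw [_root_.mul_inv, inv_inv]
    apply Units.ext
    simp only [Units.val_mul, Units.val_inv_eq_inv_val]
    field_simp

variable {β : K} (hβq : β ^ q = β) (hβ : ∀ x : K, x * x ≠ x + β)

include hβq in
/-- The centraliser of the torus in the Levi subgroup is the torus. -/
theorem levi_cent {g : GD K} (hg : InLevi S g) (hc : Commute g (Phi (Sb hβ))) : g ∈ Hsub S hβ := by
  obtain ⟨u, A, hA, rfl⟩ := hg
  have h1 : Phi (A * Sb hβ) = Phi (Sb hβ * A) := by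
    rw [map_mul, map_mul]
    have := hc.eq
    rw [mul_assoc, ← mul_assoc (Phi (Sb hβ)), ← (zz_comm S u (Sb hβ)).eq, mul_assoc] at this
    exact mul_left_cancel this
  have h2 : zz S (1 : Kˣ) * Phi ((Sb hβ * A)⁻¹ * (A * Sb hβ)) = 1 := by
    rw [map_one, one_mul, map_mul, h1, map_inv, inv_mul_cancel]
  have h3 := (kernel S (mul_mem (inv_mem (mul_mem (Sb_mem S hβq hβ) hA)) (mul_mem hA (Sb_mem S hβq hβ))) h2).1
  rw [map_one, inv_mul_eq_one] at h3
  exact ⟨(u, ⟨A, hA, Subgroup.mem_centralizer_singleton_iff.2 h3.symm⟩), rfl⟩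

include hβq in
theorem zz_mem_H (u : Kˣ) : zz S u ∈ Hsub S hβ :=
  ⟨(u, 1), by show zz S u * Phi ((1 : ↥(Cq S hβ)) : GL (Fin 2) K) = _; rw [Subgroup.coe_one, map_one, mul_one]⟩

include hβq in
theorem Phi_Sb_mem_H : Phi (Sb hβ) ∈ Hsub S hβ :=
  ⟨(1, ⟨Sb hβ, Sb_mem S hβq hβ, Subgroup.mem_centralizer_singleton_iff.2 rfl⟩),
    by show zz S (1 : Kˣ) * Phi (Sb hβ) = _; rw [map_one, one_mul]⟩

include hβq in
/-- The centraliser is the torus for q ≥ 3. -/
theorem cent_three (hq3 : 3 ≤ q) {g : GD K} (hg : g ∈ twistedD4 K q)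
    (hc : ∀ h ∈ Hsub S hβ, Commute h g) : g ∈ Hsub S hβ := by
  obtain ⟨u0, hu0⟩ := exists_gen S
  obtain ⟨a, t, m, cu, cv, hm, hstab, hcu, hcv, huf, hvf, rfl⟩ :=
    cent_form S hu0 hg (hc _ (zz_mem_H S hβq hβ u0))
  refine levi_cent S hβq hβ ?_ (hc _ (Phi_Sb_mem_H S hβq hβ)).symm
  have h14 : ∀ r ∈ Facts.posL chevD4, (q : ℤ) ^ 3 - 1 ∣ ev q (eC r) → r = 14 := by
    intro r hr hd
    obtain ⟨h1, h2⟩ := Facts.mem_posL.1 hr
    rcases table_roots ⟨r, h2⟩ with h | h | h
    · exact h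
    · change r = 9 at h
      change 24 / 2 ≤ r at h1
      omega
    · exact absurd hd (good_ne h hq3)
  have hsingle : ∀ c : ℕ → K, (∀ r ∈ Facts.posL chevD4, c r ≠ 0 → r = 14) →
      (factsD4.sys K).prodOver (Facts.posL chevD4) c ∈ S.T.fix →
      InLevi S ((factsD4.sys K).prodOver (Facts.posL chevD4) c) := by
    intro c hc hf
    have h14' : (14 : ℕ) ∈ Facts.posL chevD4 := by decide +kernel
    have hq14 := coef_fix S factsD4.closedList_posL (fun r hr hne => by
      rw [hc r hr hne]; decide +kernel) hf 14 h14'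
    rw [prodOver_filter (fun r => r == 14) fun r hr h => by
      by_contra hne
      simp [hc r hr hne] at h, show (Facts.posL chevD4).filter (fun r => r == 14) = [14] by decide +kernel]
    simp only [CommSys.prodOver, List.map_cons, List.map_nil, List.prod_cons, List.prod_nil, mul_one, Facts.sys_x]
    rw [← phi_up]
    refine inLevi_phi S fun i j => ?_
    fin_cases i <;> fin_cases j <;> simp [upS, hq14, zero_pow (show q ≠ 0 by omega)]
  refine ((hsingle cu (fun r hr hne => h14 r hr (hcu r hr hne)) huf).mul S ((inLevi_tt S hm).mul S ?_)).mul S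
    (hsingle cv (fun r hr hne => h14 r hr (hcv r hr hne).1) hvf)
  rcases table_weyl a with h | h | ⟨r, hr⟩
  · rw [show orbN a = [] by rw [show a = (⟨0, by decide⟩ : Fin ws.length) from Fin.ext h]; decide +kernel]
    exact ⟨1, 1, one_mem _, by rw [map_one, map_one, one_mul]; rfl⟩
  · rw [show orbN a = [1] by rw [show a = (⟨1, by decide⟩ : Fin ws.length) from Fin.ext h]; decide +kernel,
      TorusSys.nw_singleton, factsD4.tsys_nS, show chevD4.simple (1 : Fin chevD4.rank).val = 14 from s1.1,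
      ← nn_eq_ng]
    have e : RankOneRel.nn (factsD4.xg (F := K) 14) (factsD4.xg 9) 1 = phi K antS := by
      rw [antS_eq, map_mul, map_mul, phi_up, phi_lo, RankOneRel.nn, inv_one]
    rw [e]
    refine inLevi_phi S fun i j => ?_
    fin_cases i <;> fin_cases j <;> simp [antS, zero_pow (show q ≠ 0 by omega), ← S.hfr]
  · exact absurd (hstab r.val r.isLt) (good_ne hr hq3)

end Cfsg.Agent.Small.D4Torus
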