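import Cfsg.Agent.Lib.Lie.TwistD4W
import Cfsg.Agent.Lib.Lie.SL2Hom

/-!
The Levi subgroup of the central node of ³D₄(q) as an image of K* × GL₂.
-/

set_option autoImplicit false
set_option maxRecDepth 4000
set_option linter.unusedSectionVars false

namespace Cfsg.Agent.Small.D4Torus

open Cfsg.Lie Matrix Cfsg.Agent.Lie
open Cfsg.Agent.Lie.D4 (Setup neZero_rank)
open scoped MatrixGroups

local notation "GD" => GL chevD4.Idx

variable {K : Type*} [Field K] [Fintype K] {q : ℕ} (S : Setup K q)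

theorem crd_mul (t t' m m' : Kˣ) : S.crd t m * S.crd t' m' = S.crd (t * t') (m * m') := by
  funext j
  match j with
  | ⟨0, _⟩ => rfl
  | ⟨1, _⟩ => rfl
  | ⟨2, _⟩ => exact (mul_pow t t' q).symm
  | ⟨3, _⟩ =>
    show (t ^ q) ^ q * (t' ^ q) ^ q = ((t * t') ^ q) ^ q
    rw [mul_pow, mul_pow]

theorem crd_one : S.crd (1 : Kˣ) 1 = 1 := by
  funext j
  match j with
  | ⟨0, _⟩ => rfl
  | ⟨1, _⟩ => rfl
  | ⟨2, _⟩ => exact one_pow q
  | ⟨3, _⟩ =>
    show ((1 : Kˣ) ^ q) ^ q = 1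
    rw [one_pow, one_pow]

/-- The torus element with coordinates t, m. -/
noncomputable def tt (t m : Kˣ) : GD K := torus chevD4 K (S.crd t m)

theorem tt_mul (t t' m m' : Kˣ) : tt S t m * tt S t' m' = tt S (t * t') (m * m') := by
  rw [tt, tt, tt, ← map_mul, crd_mul]

theorem tt_one : tt S (1 : Kˣ) 1 = 1 := by rw [tt, crd_one, map_one]

theorem tt_mem_H (t m : Kˣ) : tt S t m ∈ (factsD4.tsys K).H := by
  rw [factsD4.tsys_H, factsD4.diagonalSubgroup_eq]; exact ⟨_, rfl⟩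

include S in
theorem pow_cube' (u : Kˣ) : ((u ^ q) ^ q) ^ q = u := by
  ext1
  simp only [Units.val_pow_eq_pow_val]
  exact S.pow_cube _

/-- The norm to the subfield. -/
def nrm (q : ℕ) (u : Kˣ) : Kˣ := u * u ^ q * (u ^ q) ^ q

include S in
theorem nrm_fix (u : Kˣ) : nrm q u ^ q = nrm q u := by
  simp only [nrm, mul_pow]
  rw [pow_cube' S]
  ac_rfl

theorem nrm_mul (u v : Kˣ) : nrm q (u * v) = nrm q u * nrm q v := by
  simp only [nrm, mul_pow]; ac_rfl

theorem nrm_one : nrm q (1 : Kˣ) = 1 := by simp [nrm]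

theorem nrm_of_fix {a : Kˣ} (ha : a ^ q = a) : nrm q a = a ^ 3 := by
  rw [nrm, ha, ha, pow_succ, pow_two]

/-- The central torus of the Levi subgroup. -/
noncomputable def zz : Kˣ →* GD K where
  toFun u := tt S (u ^ 2) (nrm q u)
  map_one' := by rw [one_pow, nrm_one, tt_one]
  map_mul' u v := by rw [tt_mul, mul_pow, nrm_mul]

theorem zz_apply (u : Kˣ) : zz S u = tt S (u ^ 2) (nrm q u) := rfl

/-- The SL₂ of the central node. -/
noncomputable def phi (K : Type*) [Field K] : Matrix.SpecialLinearGroup (Fin 2) K →* GD K :=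
  (factsD4.rankOneRel_simple (F := K) 1 (by decide +kernel)).hom

theorem s1 : chevD4.simple 1 = 14 ∧ chevD4.neg 14 = 9 := by decide +kernel

theorem phi_up (t : K) : phi K (upS t) = factsD4.xg 14 t := by
  rw [phi, RankOneRel.hom_up, s1.1]

theorem phi_lo (t : K) : phi K (loS t) = factsD4.xg 9 t := by
  rw [phi, RankOneRel.hom_lo, s1.1, s1.2]

theorem toFun_phi (g : Matrix.SpecialLinearGroup (Fin 2) K) :
    phi K g = RankOneRel.toFun (factsD4.xg (F := K) 14) (factsD4.xg 9) g := by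
  show RankOneRel.toFun _ _ g = _
  rw [s1.1, s1.2]

theorem nn_eq_ng (t : K) : RankOneRel.nn (factsD4.xg (F := K) 14) (factsD4.xg 9) t = factsD4.ng 14 t := by
  rw [factsD4.ng_eq, s1.2]; rfl

theorem phi_diag (e : Kˣ) (g : Matrix.SpecialLinearGroup (Fin 2) K) (h10 : g.1 1 0 = 0)
    (h01 : g.1 0 1 = 0) (h00 : g.1 0 0 = e) : phi K g = torus chevD4 K (Pi.mulSingle 1 e) := by
  rw [toFun_phi, RankOneRel.toFun, if_pos h10, h01, zero_div, factsD4.xg_zero, mul_one, h00,
    RankOneRel.hh, nn_eq_ng, nn_eq_ng, ← factsD4.hg_eq, factsD4.torus_single]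
  congr 1

/-- diag(a, 1). -/
def dg (a : Kˣ) : GL (Fin 2) K :=
  ⟨!![(a : K), 0; 0, 1], !![((a⁻¹ : Kˣ) : K), 0; 0, 1],
    by ext i j; fin_cases i <;> fin_cases j <;> simp,
    by ext i j; fin_cases i <;> fin_cases j <;> simp⟩

theorem dg_val (a : Kˣ) : (dg a : Matrix (Fin 2) (Fin 2) K) = !![(a : K), 0; 0, 1] := rfl

theorem dg_mul (a b : Kˣ) : dg (a * b) = dg a * dg b := by
  ext i j
  fin_cases i <;> fin_cases j <;> simp [dg_val, Matrix.mul_apply]

/-- The torus element extending the SL₂. -/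
noncomputable def del : Kˣ →* GD K := (torus chevD4 K).comp
  { toFun := fun a _ => a⁻¹
    map_one' := by funext i; simp
    map_mul' := fun a b => by funext i; simp [mul_comm] }

theorem del_apply (a : Kˣ) : del a = torus chevD4 K (fun _ => a⁻¹) := rfl

theorem torChar_fin (c : Fin chevD4.rank → Kˣ) (r : ℕ) : torChar chevD4 c r =
    c 0 ^ chevD4.cartan 0 r * c 1 ^ chevD4.cartan 1 r * c 2 ^ chevD4.cartan 2 r * c 3 ^ chevD4.cartan 3 r := by
  show (∏ i : Fin 4, c i ^ chevD4.cartan i.val r) = _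
  rw [Fin.prod_univ_four]
  rfl

theorem cart14 : [chevD4.cartan 0 14, chevD4.cartan 1 14, chevD4.cartan 2 14, chevD4.cartan 3 14] = [-1, 2, -1, -1] ∧
    [chevD4.cartan 0 9, chevD4.cartan 1 9, chevD4.cartan 2 9, chevD4.cartan 3 9] = [1, -2, 1, 1] := by
  decide +kernel

theorem torChar_14 (c : Fin chevD4.rank → Kˣ) :
    torChar chevD4 c 14 = c 0 ^ (-1 : ℤ) * c 1 ^ (2 : ℤ) * c 2 ^ (-1 : ℤ) * c 3 ^ (-1 : ℤ) ∧
      torChar chevD4 c 9 = c 0 ^ (1 : ℤ) * c 1 ^ (-2 : ℤ) * c 2 ^ (1 : ℤ) * c 3 ^ (1 : ℤ) := by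
  have h := cart14
  simp only [List.cons.injEq, and_true] at h
  obtain ⟨⟨a0, a1, a2, a3⟩, b0, b1, b2, b3⟩ := h
  exact ⟨by rw [torChar_fin, a0, a1, a2, a3], by rw [torChar_fin, b0, b1, b2, b3]⟩

theorem del_char (a : Kˣ) : torChar chevD4 (fun _ => a⁻¹) 14 = a ∧ torChar chevD4 (fun _ => a⁻¹) 9 = a⁻¹ := by
  rw [(torChar_14 _).1, (torChar_14 _).2]
  constructor <;> simp [_root_.zpow_neg] <;> group

theorem zz_char (u : Kˣ) : torChar chevD4 (S.crd (u ^ 2) (nrm q u)) 14 = 1 ∧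
    torChar chevD4 (S.crd (u ^ 2) (nrm q u)) 9 = 1 := by
  rw [(torChar_14 _).1, (torChar_14 _).2]
  have key : ∀ x y w N : Kˣ, x * y * w = N → x⁻¹ * N * y⁻¹ * w⁻¹ = 1 := by
    rintro x y w _ rfl
    rw [mul_assoc x, inv_mul_cancel_left, mul_comm y w, mul_inv_cancel_right, mul_inv_cancel]
  have e : (u ^ 2) * (u ^ 2) ^ q * ((u ^ 2) ^ q) ^ q = nrm q u ^ 2 := by
    simp only [nrm, mul_pow]
    rw [pow_right_comm u 2 q, pow_right_comm (u ^ q) 2 q]
  constructor
  · show (u ^ 2) ^ (-1 : ℤ) * nrm q u ^ (2 : ℤ) * ((u ^ 2) ^ q) ^ (-1 : ℤ) * (((u ^ 2) ^ q) ^ q) ^ (-1 : ℤ) = 1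
    simp only [_root_.zpow_neg_one, zpow_ofNat]
    exact key _ _ _ _ e
  · show (u ^ 2) ^ (1 : ℤ) * nrm q u ^ (-2 : ℤ) * ((u ^ 2) ^ q) ^ (1 : ℤ) * (((u ^ 2) ^ q) ^ q) ^ (1 : ℤ) = 1
    simp only [_root_.zpow_neg, zpow_ofNat, pow_one]
    rw [← _root_.inv_inj]
    simpa only [_root_.mul_inv, inv_inv, inv_one] using key _ _ _ _ e

theorem antS_eq : (antS : Matrix.SpecialLinearGroup (Fin 2) K) = upS 1 * loS (-1) * upS 1 := by
  ext i j
  simp only [RankOneRel.entries_mul]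
  fin_cases i <;> fin_cases j <;> simp [upS, loS, antS]

theorem hom_ext2 {Γ : Type*} [Group Γ] {f g : Matrix.SpecialLinearGroup (Fin 2) K →* Γ}
    (hu : ∀ t, f (upS t) = g (upS t)) (hl : ∀ t, f (loS t) = g (loS t)) : f = g := by
  refine MonoidHom.eq_of_eqOn_dense RankOneRel.closure_up_ant ?_
  rintro x (⟨t, rfl⟩ | hx)
  · exact hu t
  · rw [Set.mem_singleton_iff] at hx
    subst hx
    rw [antS_eq]
    simp only [map_mul, hu, hl]

/-- Conjugation by diag(a, 1). -/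
def cj (a : Kˣ) : Matrix.SpecialLinearGroup (Fin 2) K →* Matrix.SpecialLinearGroup (Fin 2) K :=
  MonoidHom.mk' (fun g => ⟨((dg a * Matrix.SpecialLinearGroup.toGL g * (dg a)⁻¹ : GL (Fin 2) K) : Matrix _ _ K), by
      rw [Units.val_mul, Units.val_mul, Matrix.det_mul, Matrix.det_mul, mul_comm (Matrix.det _) (Matrix.det _),
        mul_assoc, ← Matrix.det_mul (dg a : Matrix (Fin 2) (Fin 2) K), ← Units.val_mul, mul_inv_cancel,
        Units.val_one, Matrix.det_one, mul_one]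
      exact g.2⟩)
    fun g h => Subtype.ext (by
      show Units.val (dg a * Matrix.SpecialLinearGroup.toGL (g * h) * (dg a)⁻¹) =
        Units.val (dg a * Matrix.SpecialLinearGroup.toGL g * (dg a)⁻¹) *
          Units.val (dg a * Matrix.SpecialLinearGroup.toGL h * (dg a)⁻¹)
      rw [← Units.val_mul]
      refine congrArg Units.val ?_
      rw [map_mul]
      group)

theorem cj_val (a : Kˣ) (g : Matrix.SpecialLinearGroup (Fin 2) K) :
    (cj a g).1 = !![g.1 0 0, (a : K) * g.1 0 1; ((a⁻¹ : Kˣ) : K) * g.1 1 0, g.1 1 1] := by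
  show ((dg a : Matrix (Fin 2) (Fin 2) K) * g.1 * !![((a⁻¹ : Kˣ) : K), 0; 0, 1]) = _
  ext i j
  fin_cases i <;> fin_cases j <;> simp [dg_val, Matrix.mul_apply, Matrix.vecMul, dotProduct, Fin.sum_univ_two, mul_comm]

theorem del_conj (a : Kˣ) (g : Matrix.SpecialLinearGroup (Fin 2) K) :
    del a * phi K g * (del a)⁻¹ = phi K (cj a g) := by
  have h : (MulAut.conj (del a)).toMonoidHom.comp (phi K) = (phi K).comp (cj a) := by
    refine hom_ext2 (fun t => ?_) (fun t => ?_)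
    · show del a * phi K (upS t) * (del a)⁻¹ = phi K (cj a (upS t))
      rw [show cj a (upS t) = upS ((a : K) * t) from Subtype.ext (by
        rw [cj_val]; ext i j; fin_cases i <;> fin_cases j <;> simp [upS]), phi_up, phi_up, del_apply,
        factsD4.torus_conj _ (by decide +kernel), (del_char a).1]
    · show del a * phi K (loS t) * (del a)⁻¹ = phi K (cj a (loS t))
      rw [show cj a (loS t) = loS (((a⁻¹ : Kˣ) : K) * t) from Subtype.ext (by
        rw [cj_val]; ext i j; fin_cases i <;> fin_cases j <;> simp [loS]), phi_lo, phi_lo, del_apply,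
        factsD4.torus_conj _ (by decide +kernel), (del_char a).2]
  exact DFunLike.congr_fun h g

theorem det_dg (a : Kˣ) : Matrix.GeneralLinearGroup.det (dg a) = a := by
  ext
  simp [Matrix.GeneralLinearGroup.val_det_apply, dg_val, Matrix.det_fin_two]

/-- The determinant-one part of an element of GL₂. -/
noncomputable def prt (A : GL (Fin 2) K) : Matrix.SpecialLinearGroup (Fin 2) K :=
  ⟨(((dg (Matrix.GeneralLinearGroup.det A))⁻¹ * A : GL (Fin 2) K) : Matrix _ _ K), by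
    have h := congrArg Units.val (map_mul Matrix.GeneralLinearGroup.det (dg (Matrix.GeneralLinearGroup.det A))⁻¹ A)
    rw [Matrix.GeneralLinearGroup.val_det_apply] at h
    rw [h, map_inv, det_dg, inv_mul_cancel, Units.val_one]⟩

theorem prt_val (A : GL (Fin 2) K) : (prt A).1 =
    !![(((Matrix.GeneralLinearGroup.det A)⁻¹ : Kˣ) : K) * A.1 0 0,
      (((Matrix.GeneralLinearGroup.det A)⁻¹ : Kˣ) : K) * A.1 0 1; A.1 1 0, A.1 1 1] := by
  show !![(((Matrix.GeneralLinearGroup.det A)⁻¹ : Kˣ) : K), 0; 0, 1] * (A : Matrix (Fin 2) (Fin 2) K) = _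
  ext i j
  fin_cases i <;> fin_cases j <;> simp [Matrix.mul_apply, Fin.sum_univ_two]

/-- The homomorphism on GL₂. -/
noncomputable def Phi : GL (Fin 2) K →* GD K :=
  MonoidHom.mk' (fun A => del (Matrix.GeneralLinearGroup.det A) * phi K (prt A)) fun A B => by
    have e : prt (A * B) = (cj (Matrix.GeneralLinearGroup.det B)⁻¹ (prt A)) * prt B := by
      apply Subtype.ext
      show (((dg (Matrix.GeneralLinearGroup.det (A * B)))⁻¹ * (A * B) : GL (Fin 2) K) : Matrix (Fin 2) (Fin 2) K) =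
        ((dg (Matrix.GeneralLinearGroup.det B)⁻¹ * Matrix.SpecialLinearGroup.toGL (prt A) *
            (dg (Matrix.GeneralLinearGroup.det B)⁻¹)⁻¹ : GL (Fin 2) K) : Matrix (Fin 2) (Fin 2) K) *
          (((dg (Matrix.GeneralLinearGroup.det B))⁻¹ * B : GL (Fin 2) K) : Matrix (Fin 2) (Fin 2) K)
      rw [← Units.val_mul]
      refine congrArg Units.val ?_
      have hi : dg ((Matrix.GeneralLinearGroup.det B)⁻¹) = (dg (Matrix.GeneralLinearGroup.det B))⁻¹ := by
        apply eq_inv_of_mul_eq_one_left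
        rw [← dg_mul, inv_mul_cancel]
        ext i j; fin_cases i <;> fin_cases j <;> simp [dg_val]
      have hs : Matrix.SpecialLinearGroup.toGL (prt A) = (dg (Matrix.GeneralLinearGroup.det A))⁻¹ * A :=
        Units.ext rfl
      rw [map_mul, dg_mul, hi, hs]
      group
    rw [e, map_mul, map_mul, map_mul, ← del_conj, map_inv]
    group

theorem Phi_apply (A : GL (Fin 2) K) : Phi A = del (Matrix.GeneralLinearGroup.det A) * phi K (prt A) := rfl

theorem zz_comm_phi (u : Kˣ) (g : Matrix.SpecialLinearGroup (Fin 2) K) : Commute (zz S u) (phi K g) := by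
  have h : (MulAut.conj (zz S u)).toMonoidHom.comp (phi K) = phi K := by
    refine hom_ext2 (fun t => ?_) (fun t => ?_)
    · show zz S u * phi K (upS t) * (zz S u)⁻¹ = _
      rw [phi_up, zz_apply, tt, factsD4.torus_conj _ (by decide +kernel), (zz_char S u).1, Units.val_one, one_mul]
    · show zz S u * phi K (loS t) * (zz S u)⁻¹ = _
      rw [phi_lo, zz_apply, tt, factsD4.torus_conj _ (by decide +kernel), (zz_char S u).2, Units.val_one, one_mul]
  exact mul_inv_eq_iff_eq_mul.1 (DFunLike.congr_fun h g)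

theorem zz_comm (u : Kˣ) (A : GL (Fin 2) K) : Commute (zz S u) (Phi A) := by
  rw [Phi_apply]
  refine Commute.mul_right ?_ (zz_comm_phi S u _)
  rw [zz_apply, tt, del_apply]
  exact (Commute.all _ _).map _

theorem crd_const {a : Kˣ} (ha : a ^ q = a) : (fun _ => a) = S.crd a a := by
  funext j
  match j with
  | ⟨0, _⟩ => rfl
  | ⟨1, _⟩ => rfl
  | ⟨2, _⟩ => exact ha.symm
  | ⟨3, _⟩ =>
    show a = (a ^ q) ^ q
    rw [ha, ha]

theorem del_eq {a : Kˣ} (ha : a ^ q = a) : del a = tt S a⁻¹ a⁻¹ := by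
  rw [del_apply, tt, crd_const S (by rw [inv_pow, ha])]

theorem torus_single_eq (e : Kˣ) : torus chevD4 K (Pi.mulSingle 1 e) = tt S 1 e := by
  rw [tt]
  congr 1
  funext j
  match j with
  | ⟨0, _⟩ => rfl
  | ⟨1, _⟩ => rfl
  | ⟨2, _⟩ => exact (one_pow q).symm
  | ⟨3, _⟩ =>
    show (1 : Kˣ) = ((1 : Kˣ) ^ q) ^ q
    rw [one_pow, one_pow]

end Cfsg.Agent.Small.D4Torus
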