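import Cfsg.Agent.Lib.Small.D4Torus.Basic
import Mathlib.RingTheory.AdjoinRoot
import Mathlib.RingTheory.IntegralDomain

/-!
The cyclic torus of order (q³ − 1)(q + 1) in ³D₄(q).
-/

set_option autoImplicit false
set_option maxRecDepth 4000
set_option linter.unusedSectionVars false

namespace Cfsg.Agent.Small.D4Torus

open Cfsg.Lie Matrix Cfsg.Agent.Lie
open Cfsg.Agent.Lie.D4 (Setup neZero_rank)
open scoped MatrixGroups

local notation "GD" => GL chevD4.Idx

variable {K : Type*} [Field K] [Fintype K] {q : ℕ} (S : Setup K q)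

/-- GL₂ over the subfield. -/
def glk : Subgroup (GL (Fin 2) K) :=
  (Matrix.GeneralLinearGroup.map (n := Fin 2) S.T.fr).eqLocus (MonoidHom.id _)

theorem mem_glk {A : GL (Fin 2) K} : A ∈ glk S ↔ ∀ i j, A.1 i j ^ q = A.1 i j := by
  show Matrix.GeneralLinearGroup.map S.T.fr A = A ↔ _
  rw [Units.ext_iff, ← Matrix.ext_iff]
  exact forall_congr' fun i => forall_congr' fun j => by
    rw [← S.hfr]
    rfl

theorem det_fix {A : GL (Fin 2) K} (hA : A ∈ glk S) :
    Matrix.GeneralLinearGroup.det A ^ q = Matrix.GeneralLinearGroup.det A := by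
  ext1
  rw [Units.val_pow_eq_pow_val, Matrix.GeneralLinearGroup.val_det_apply, ← S.hfr, RingHom.map_det]
  congr 1
  ext i j
  show S.T.fr (A.1 i j) = A.1 i j
  rw [S.hfr]
  exact mem_glk S |>.1 hA i j

include S in
theorem inv_fix {x : K} (hx : x ^ q = x) : x⁻¹ ^ q = x⁻¹ := by rw [inv_pow, hx]

include S in
theorem neg_fix {x : K} (hx : x ^ q = x) : (-x) ^ q = -x := by rw [← S.hfr, map_neg, S.hfr, hx]

include S in
theorem phi_mem {g : Matrix.SpecialLinearGroup (Fin 2) K} (hg : ∀ i j, g.1 i j ^ q = g.1 i j) :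
    phi K g ∈ twistedD4 K q := by
  have hu : ∀ {t : K}, t ^ q = t → factsD4.xg 14 t ∈ twistedD4 K q := fun ht => S.A_mem (Or.inl rfl) ht
  have hv : ∀ {t : K}, t ^ q = t → factsD4.xg 9 t ∈ twistedD4 K q := fun ht => S.A_mem (Or.inr rfl) ht
  have hn : ∀ {t : K}, t ^ q = t → RankOneRel.nn (factsD4.xg (F := K) 14) (factsD4.xg 9) t ∈ twistedD4 K q :=
    fun ht => mul_mem (mul_mem (hu ht) (hv (neg_fix S (inv_fix S ht)))) (hu ht)
  have hd : ∀ {x y : K}, x ^ q = x → y ^ q = y → (x / y) ^ q = x / y := fun hx hy => by rw [div_pow, hx, hy]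
  rw [toFun_phi, RankOneRel.toFun]
  split_ifs with hc
  · exact mul_mem (mul_mem (hn (hg 0 0)) (hn (neg_fix S (one_pow q)))) (hu (hd (hg 0 1) (hg 0 0)))
  · exact mul_mem (mul_mem (hu (hd (hg 0 0) (hg 1 0))) (hn (neg_fix S (inv_fix S (hg 1 0)))))
      (hu (hd (hg 1 1) (hg 1 0)))

theorem zz_mem (u : Kˣ) : zz S u ∈ twistedD4 K q := S.torus_mem (nrm_fix S u)

theorem Phi_mem {A : GL (Fin 2) K} (hA : A ∈ glk S) : Phi A ∈ twistedD4 K q := by
  have hd := det_fix S hA
  rw [Phi_apply]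
  refine mul_mem ?_ (phi_mem S ?_)
  · rw [del_eq S hd]
    exact S.torus_mem (by rw [inv_pow, hd])
  · have hdi : ((((Matrix.GeneralLinearGroup.det A)⁻¹ : Kˣ)) : K) ^ q =
        (((Matrix.GeneralLinearGroup.det A)⁻¹ : Kˣ) : K) := by
      rw [← Units.val_pow_eq_pow_val, inv_pow, hd]
    have h := (mem_glk S).1 hA
    intro i j
    rw [prt_val]
    fin_cases i <;> fin_cases j <;> simp only [Matrix.of_apply, Fin.zero_eta, Fin.mk_one, Matrix.cons_val',
      Matrix.cons_val_zero, Matrix.cons_val_one, Matrix.cons_val_fin_one, Matrix.empty_val'] <;>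
      first | exact h _ _ | rw [mul_pow, hdi, h]

/-- The scalar matrices. -/
def scal : Kˣ →* GL (Fin 2) K := Units.map (Matrix.scalar (Fin 2) : K →+* Matrix (Fin 2) (Fin 2) K).toMonoidHom

theorem scal_val (a : Kˣ) : (scal a).1 = !![(a : K), 0; 0, a] := by
  ext i j
  fin_cases i <;> fin_cases j <;> simp [scal]

theorem det_scal (a : Kˣ) : Matrix.GeneralLinearGroup.det (scal a) = a ^ 2 := by
  ext1
  rw [Matrix.GeneralLinearGroup.val_det_apply, scal_val, Matrix.det_fin_two_of, Units.val_pow_eq_pow_val]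
  ring

theorem Phi_scal {a : Kˣ} (ha : a ^ q = a) : Phi (scal a) = zz S a⁻¹ := by
  have h2 : (a ^ 2) ^ q = a ^ 2 := by rw [← pow_mul, mul_comm, pow_mul, ha]
  rw [Phi_apply, det_scal, del_eq S h2, phi_diag (a⁻¹) _ (by rw [prt_val, scal_val]; simp)
    (by rw [prt_val, scal_val]; simp) (by rw [prt_val, scal_val, det_scal]; simp [pow_two]),
    torus_single_eq S, tt_mul, mul_one, zz_apply, nrm_of_fix (by rw [inv_pow, ha])]
  congr 1
  rw [← inv_pow, ← pow_succ]

theorem nS_not_B : (factsD4.tsys K).nS (1 : Fin chevD4.rank) ∉ (factsD4.tsys K).B := by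
  intro h
  obtain ⟨a, ha, he⟩ := (factsD4.tsys K).nw_eq (ω := [(1 : Fin chevD4.rank)]) (w := factsD4.wS 1)
    (RefSystem.pr_singleton _ _)
  rw [TorusSys.nw_singleton] at he
  have hw : (factsD4.tsys K).nW (factsD4.wS 1) ∈ (factsD4.tsys K).B := by
    have := mul_mem (inv_mem ((factsD4.tsys K).H_le_B ha)) h
    rwa [he, inv_mul_cancel_left] at this
  have h1 : factsD4.wS 1 = 1 := factsD4.hsep _ hw
  have h2 := congrArg (fun w : factsD4.weyl => (w • (⟨14, by decide +kernel⟩ : Fin chevD4.nroots)).val) h1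
  simp only [factsD4.wS_smul, one_smul] at h2
  have h3 : ¬ chevD4.reflectRoot (1 : Fin chevD4.rank).val 14 = 14 := by decide +kernel
  exact h3 h2

/-- The kernel of the parametrisation. -/
theorem kernel {A : GL (Fin 2) K} (hA : A ∈ glk S) {u : Kˣ} (h : zz S u * Phi A = 1) :
    A = scal u ∧ u ^ q = u := by
  obtain ⟨d, hd⟩ : ∃ d, d = Matrix.GeneralLinearGroup.det A := ⟨_, rfl⟩
  have hdq : d ^ q = d := by rw [hd]; exact det_fix S hA
  rw [Phi_apply, ← hd, ← mul_assoc, zz_apply, del_eq S hdq, tt_mul] at h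
  have hphi := eq_inv_of_mul_eq_one_right h
  have hH : phi K (prt A) ∈ (factsD4.tsys K).H := hphi ▸ inv_mem (tt_mem_H S _ _)
  have h14 : ∀ t : K, factsD4.xg 14 t ∈ (factsD4.tsys K).U := fun t =>
    (factsD4.tsys K).x_mem_U (by decide +kernel) (by decide +kernel) t
  rw [toFun_phi, RankOneRel.toFun] at hH
  by_cases hc : A.1 1 0 = 0
  swap
  · rw [if_neg (by rw [prt_val]; simpa using hc)] at hH
    exfalso
    generalize hy : -((prt A).1 1 0)⁻¹ = y at hH
    generalize (prt A).1 0 0 / (prt A).1 1 0 = x, (prt A).1 1 1 / (prt A).1 1 0 = z at hH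
    have hy0 : y ≠ 0 := by rw [← hy, prt_val]; simpa using hc
    rw [nn_eq_ng] at hH
    have hB : factsD4.ng 14 y ∈ (factsD4.tsys K).B := by
      have := mul_mem (mul_mem ((factsD4.tsys K).U_le_B (inv_mem (h14 x))) ((factsD4.tsys K).H_le_B hH))
        ((factsD4.tsys K).U_le_B (inv_mem (h14 z)))
      rwa [show (factsD4.xg 14 x)⁻¹ * (factsD4.xg 14 x * factsD4.ng 14 y * factsD4.xg 14 z) *
        (factsD4.xg 14 z)⁻¹ = factsD4.ng 14 y by group] at this
    rw [← factsD4.tsys_n, TorusSys.n_eq_h_mul] at hB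
    apply nS_not_B (K := K)
    have hh : (factsD4.tsys K).h 14 y ∈ (factsD4.tsys K).B :=
      (factsD4.tsys K).H_le_B ((factsD4.tsys K).h_mem (by decide +kernel) hy0)
    have := mul_mem (inv_mem hh) hB
    rw [inv_mul_cancel_left] at this
    exact this
  rw [if_pos (by rw [prt_val]; simpa using hc)] at hH
  have hdet : (d : K) = A.1 0 0 * A.1 1 1 := by
    rw [hd, Matrix.GeneralLinearGroup.val_det_apply, Matrix.det_fin_two, hc, mul_zero, sub_zero]
  have h00 : (prt A).1 0 0 ≠ 0 := by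
    rw [prt_val, ← hd]
    simp only [Matrix.of_apply, Matrix.cons_val', Matrix.cons_val_zero, Matrix.cons_val_fin_one]
    exact mul_ne_zero (Units.ne_zero _) (left_ne_zero_of_mul (hdet ▸ d.ne_zero))
  have hhh : RankOneRel.hh (factsD4.xg (F := K) 14) (factsD4.xg 9) ((prt A).1 0 0) ∈ (factsD4.tsys K).H := by
    rw [RankOneRel.hh, nn_eq_ng, nn_eq_ng, ← factsD4.hg_eq, ← factsD4.tsys_h]
    exact (factsD4.tsys K).h_mem (by decide +kernel) h00
  have h01 : A.1 0 1 = 0 := by
    have := mul_mem (inv_mem hhh) hH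
    rw [inv_mul_cancel_left] at this
    have e := factsD4.U_inter_H (h14 _) this
    rw [← factsD4.xg_zero 14] at e
    have e' := factsD4.xg_inj (by decide +kernel) e
    rw [div_eq_zero_iff, or_iff_left h00, prt_val] at e'
    simp only [Matrix.of_apply, Matrix.cons_val', Matrix.cons_val_zero, Matrix.cons_val_one,
      Matrix.cons_val_fin_one, Matrix.empty_val'] at e'
    exact (mul_eq_zero.1 e').resolve_left (Units.ne_zero _)
  rw [phi_diag (Units.mk0 _ h00) _ (by rw [prt_val]; simpa using hc) (by rw [prt_val]; simp [h01]) rfl,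
    torus_single_eq S, tt_mul, mul_one] at h
  have hi := S.crd_inj (h.trans (tt_one S).symm)
  obtain ⟨h1, h2⟩ := hi
  rw [mul_inv_eq_one] at h1
  have hu2 : (u ^ q) ^ 2 = u ^ 2 := by rw [← pow_mul, mul_comm, pow_mul, h1, hdq]
  have huq : u ^ q = u := by
    obtain ⟨ε, hε⟩ : ∃ ε : Kˣ, ε = u ^ q * u⁻¹ := ⟨_, rfl⟩
    have hε2 : ε ^ 2 = 1 := by rw [hε, mul_pow, hu2, inv_pow, mul_inv_cancel]
    have hεq := S.sq_one_pow hε2
    have e1 : u ^ q = ε * u := by rw [hε, inv_mul_cancel_right]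
    have e2 : (u ^ q) ^ q = u := by
      rw [e1, mul_pow, hεq, e1, ← mul_assoc, ← pow_two, hε2, one_mul]
    have := pow_cube' S u
    rwa [e2] at this
  refine ⟨?_, huq⟩
  have hu2' : (d : K) = (u : K) * u := by rw [← h1]; simp [pow_two]
  have h2' := congrArg Units.val h2
  rw [nrm_of_fix huq] at h2'
  simp only [Units.val_mul, Units.val_pow_eq_pow_val, Units.val_inv_eq_inv_val, Units.val_mk0, Units.val_one] at h2'
  rw [prt_val, ← hd] at h2'
  simp only [Matrix.of_apply, Matrix.cons_val', Matrix.cons_val_zero, Matrix.cons_val_fin_one,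
    Units.val_inv_eq_inv_val, hu2'] at h2'
  have hune := u.ne_zero
  have e00 : A.1 0 0 = u := by field_simp at h2'; linear_combination h2'
  have e11 : A.1 1 1 = u := by
    rw [e00, hu2'] at hdet
    exact mul_left_cancel₀ hune hdet.symm
  ext i j
  rw [scal_val]
  fin_cases i <;> fin_cases j <;> simp [e00, e11, hc, h01]

section Field

variable {β : K} (hβq : β ^ q = β) (hβ : ∀ x : K, x * x ≠ x + β)

include S in
theorem exists_beta : ∃ β : K, β ^ q = β ∧ ∀ x : K, x * x ≠ x + β := by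
  have hk : Finite {t : K // t ^ q = t} := inferInstance
  let f : {t : K // t ^ q = t} → {t : K // t ^ q = t} := fun t => ⟨t.1 * t.1 - t.1, by
    rw [← S.hfr, map_sub, map_mul, S.hfr, t.2]⟩
  have hnot : ¬ Function.Surjective f := fun hs => by
    have h01 : f ⟨0, zero_pow (by have := S.hq; omega)⟩ = f ⟨1, one_pow q⟩ := Subtype.ext (show (0 : K) * 0 - 0 = 1 * 1 - 1 by simp)
    exact zero_ne_one (congrArg Subtype.val ((Finite.injective_iff_surjective.2 hs) h01))
  simp only [Function.Surjective, not_forall, not_exists] at hnot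
  obtain ⟨β, hb⟩ := hnot
  refine ⟨β.1, β.2, fun x hx => ?_⟩
  have hxq : x ^ q = x := by
    have hF := hx
    apply_fun S.T.fr at hF
    rw [map_add, map_mul, S.hfr, S.hfr, β.2] at hF
    have e : (x ^ q - x) * (x ^ q + x - 1) = 0 := by linear_combination hF - hx
    rcases mul_eq_zero.1 e with e | e
    · exact sub_eq_zero.1 e
    · have e1 : x ^ q = 1 - x := by linear_combination e
      have e2 : (x ^ q) ^ q = x := by
        rw [e1, ← S.hfr, map_sub, map_one, S.hfr, e1, sub_sub_cancel]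
      have := S.pow_cube x
      rwa [e2] at this
  exact hb ⟨x, hxq⟩ (Subtype.ext (sub_eq_iff_eq_add'.2 hx))

include hβ in
theorem beta_ne : β ≠ 0 := fun h => hβ 0 (by simp [h])

/-- The element of order dividing q² − 1. -/
def Sb (hβ : ∀ x : K, x * x ≠ x + β) : GL (Fin 2) K :=
  ⟨!![0, β; 1, 1], !![-β⁻¹, 1; β⁻¹, 0],
    by ext i j; fin_cases i <;> fin_cases j <;> simp [Matrix.mul_apply, Fin.sum_univ_two, beta_ne hβ],
    by ext i j; fin_cases i <;> fin_cases j <;> simp [Matrix.mul_apply, Fin.sum_univ_two, beta_ne hβ]⟩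

include hβq in
theorem Sb_mem : Sb hβ ∈ glk S := by
  rw [mem_glk]
  intro i j
  fin_cases i <;> fin_cases j <;> simp [Sb, hβq, zero_pow (show q ≠ 0 by have := S.hq; omega)]

/-- The units of the quadratic extension of the subfield. -/
def Cq : Subgroup (GL (Fin 2) K) := glk S ⊓ Subgroup.centralizer {Sb hβ}

theorem comm_Sb (A : GL (Fin 2) K) :
    Commute A (Sb hβ) ↔ A.1 0 1 = β * A.1 1 0 ∧ A.1 1 1 = A.1 0 0 + A.1 1 0 := by
  show A * Sb hβ = Sb hβ * A ↔ _
  rw [Units.ext_iff, ← Matrix.ext_iff]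
  simp only [Units.val_mul, Sb, Matrix.mul_apply, Fin.sum_univ_two, Fin.forall_fin_two, Matrix.of_apply,
    Matrix.cons_val', Matrix.cons_val_zero, Matrix.cons_val_one, Matrix.cons_val_fin_one, Matrix.empty_val',
    mul_zero, zero_mul, mul_one, one_mul, zero_add]
  constructor
  · rintro ⟨⟨a, b⟩, c, d⟩
    exact ⟨a, c⟩
  · rintro ⟨a, c⟩
    refine ⟨⟨a, ?_⟩, c, ?_⟩
    · rw [a, c]; ring
    · rw [a]; ring

theorem mem_Cq {A : GL (Fin 2) K} : A ∈ Cq S hβ ↔
    (A.1 0 0 ^ q = A.1 0 0 ∧ A.1 1 0 ^ q = A.1 1 0) ∧ A ∈ glk S ∧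
      A.1 0 1 = β * A.1 1 0 ∧ A.1 1 1 = A.1 0 0 + A.1 1 0 := by
  rw [Cq, Subgroup.mem_inf, Subgroup.mem_centralizer_singleton_iff, ← comm_Sb hβ]
  exact ⟨fun h => ⟨⟨(mem_glk S).1 h.1 0 0, (mem_glk S).1 h.1 1 0⟩, h.1, h.2⟩, fun h => ⟨h.2.1, h.2.2⟩⟩

include S in
theorem fix_card : {a : K | a ^ q = a}.ncard = q := by
  rw [← Nat.card_coe_set_eq]
  exact card_pow_eq_self S.hq S.hK

include hβq in
theorem card_Cq : Nat.card ↥(Cq S hβ) = q ^ 2 - 1 := by
  classical
  have h := Set.ncard_sdiff_singleton_of_mem (a := ((0 : K), (0 : K)))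
    (s := {a : K | a ^ q = a} ×ˢ {a : K | a ^ q = a})
    ⟨zero_pow (by have := S.hq; omega), zero_pow (by have := S.hq; omega)⟩
  rw [Set.ncard_prod, fix_card S, ← pow_two, ← Nat.card_coe_set_eq] at h
  rw [← h]
  have hdet : ∀ p : K × K, p ≠ (0, 0) → Matrix.det !![p.1, β * p.2; p.2, p.1 + p.2] ≠ 0 := by
    rintro ⟨a, b⟩ hp h0
    rw [Matrix.det_fin_two_of] at h0
    by_cases hb : b = 0
    · subst hb
      simp at h0
      exact hp (by simp [h0])
    · refine hβ (-a / b) ?_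
      field_simp
      linear_combination h0
  refine Nat.card_congr
    { toFun := fun A => ⟨(A.1.1 0 0, A.1.1 1 0), ?_, fun h0 => ?_⟩
      invFun := fun p => ⟨Matrix.GeneralLinearGroup.mkOfDetNeZero _ (hdet p.1 p.2.2), ?_⟩
      left_inv := fun A => ?_
      right_inv := fun p => ?_ }
  · exact ((mem_Cq S hβ).1 A.2).1
  · have hh := ((mem_Cq S hβ).1 A.2).2.2
    simp only [Set.mem_singleton_iff, Prod.mk.injEq] at h0
    have := (Matrix.GeneralLinearGroup.det A.1).ne_zero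
    rw [Matrix.GeneralLinearGroup.val_det_apply, Matrix.det_fin_two, hh.1, hh.2, h0.1, h0.2] at this
    simp at this
  · obtain ⟨⟨a, b⟩, ⟨ha, hb⟩, hne⟩ := p
    simp only [Set.mem_ofPred_eq] at ha hb
    refine (mem_Cq S hβ).2 ⟨⟨ha, hb⟩, (mem_glk S).2 fun i j => ?_, rfl, rfl⟩
    show (!![a, β * b; b, a + b] : Matrix _ _ K) i j ^ q = !![a, β * b; b, a + b] i j
    fin_cases i <;> fin_cases j
    · exact ha
    · show (β * b) ^ q = β * b
      rw [mul_pow, hβq, hb]
    · exact hb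
    · show (a + b) ^ q = a + b
      rw [← S.hfr, map_add, S.hfr, S.hfr, ha, hb]
  · have hh := ((mem_Cq S hβ).1 A.2).2.2
    apply Subtype.ext
    apply Units.ext
    show !![A.1.1 0 0, β * A.1.1 1 0; A.1.1 1 0, A.1.1 0 0 + A.1.1 1 0] = A.1.1
    ext i j
    fin_cases i <;> fin_cases j <;> simp [hh.1, hh.2]
  · exact Subtype.ext rfl

/-- The parametrisation of the torus. -/
noncomputable def psi : Kˣ × ↥(Cq S hβ) →* GD K :=
  MonoidHom.mk' (fun p => zz S p.1 * Phi p.2.1) fun p p' => by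
    rw [Prod.fst_mul, Prod.snd_mul, Subgroup.coe_mul, map_mul, map_mul,
      mul_assoc, ← mul_assoc (zz S p'.1), (zz_comm S p'.1 p.2.1).eq]
    group

/-- The cyclic torus. -/
noncomputable def Hsub : Subgroup (GD K) := (psi S hβ).range

theorem Hsub_le : Hsub S hβ ≤ twistedD4 K q := by
  rintro _ ⟨p, rfl⟩
  exact mul_mem (zz_mem S p.1) (Phi_mem S ((mem_Cq S hβ).1 p.2.2).2.1)

theorem mem_ker {p : Kˣ × ↥(Cq S hβ)} :
    p ∈ (psi S hβ).ker ↔ p.1 ^ q = p.1 ∧ p.2.1 = scal p.1 := by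
  constructor
  · intro h
    obtain ⟨h1, h2⟩ := kernel S ((mem_Cq S hβ).1 p.2.2).2.1 (u := p.1) h
    exact ⟨h2, h1⟩
  · rintro ⟨h1, h2⟩
    show zz S p.1 * Phi p.2.1 = 1
    rw [h2, Phi_scal S h1, map_inv, mul_inv_cancel]

include hβ in
theorem irred : Irreducible (Polynomial.X ^ 2 - Polynomial.X - Polynomial.C β) := by
  have hd : (Polynomial.X ^ 2 - Polynomial.X - Polynomial.C β).natDegree = 2 := by compute_degree!
  rw [Polynomial.irreducible_iff_roots_eq_zero_of_degree_le_three (by omega) (by omega), Multiset.eq_zero_iff_forall_notMem]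
  intro x hx
  have h0 : Polynomial.X ^ 2 - Polynomial.X - Polynomial.C β ≠ 0 := fun h => by rw [h] at hd; simp at hd
  rw [Polynomial.mem_roots h0] at hx
  simp [Polynomial.IsRoot] at hx
  exact hβ x (by linear_combination hx)

include hβq in
theorem cyclic_card : IsCyclic ↥(Hsub S hβ) ∧ Nat.card ↥(Hsub S hβ) = (q ^ 3 - 1) * (q + 1) := by
  classical
  have : Fact (Irreducible (Polynomial.X ^ 2 - Polynomial.X - Polynomial.C β)) := ⟨irred hβ⟩
  let P : Polynomial K := Polynomial.X ^ 2 - Polynomial.X - Polynomial.C β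
  obtain ⟨r, hr⟩ : ∃ r : AdjoinRoot P, r = AdjoinRoot.root P := ⟨_, rfl⟩
  obtain ⟨ι, hι⟩ : ∃ ι : K →+* AdjoinRoot P, ι = AdjoinRoot.of P := ⟨_, rfl⟩
  have hr2 : r * r = r + ι β := by
    have h := AdjoinRoot.eval₂_root P
    simp only [P, Polynomial.eval₂_sub, Polynomial.eval₂_X_pow, Polynomial.eval₂_X, Polynomial.eval₂_C] at h
    rw [← hr, ← hι] at h
    linear_combination h
  have hind : ∀ a b : K, ι a + ι b * r = 0 → a = 0 ∧ b = 0 := by
    intro a b h
    by_cases hb : b = 0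
    · subst hb
      rw [map_zero, zero_mul, add_zero] at h
      exact ⟨ι.injective (h.trans ι.map_zero.symm), rfl⟩
    · exfalso
      have hb' : ι b ≠ 0 := fun h' => hb (ι.injective (h'.trans ι.map_zero.symm))
      have e : r = ι (-a / b) := by
        rw [map_div₀, map_neg, eq_div_iff hb']; linear_combination h
      rw [e, ← map_mul, ← map_add] at hr2
      exact hβ _ (ι.injective hr2)
  let θ : Kˣ × ↥(Cq S hβ) →* AdjoinRoot P :=
    { toFun := fun p => ι ((p.1⁻¹ : Kˣ) : K) * (ι (p.2.1.1 0 0) + ι (p.2.1.1 1 0) * r)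
      map_one' := by simp
      map_mul' := fun p p' => by
        obtain ⟨h1, h2⟩ := ((mem_Cq S hβ).1 p.2.2).2.2
        simp only [Prod.fst_mul, Prod.snd_mul, Subgroup.coe_mul, Units.val_mul, Matrix.mul_apply, Fin.sum_univ_two,
          h1, h2, mul_inv, map_add, map_mul]
        linear_combination (ι ((p.1⁻¹ : Kˣ) : K)) * (ι ((p'.1⁻¹ : Kˣ) : K)) *
          (-(ι (p.2.1.1 1 0) * ι (p'.2.1.1 1 0))) * hr2 }
  have hker : (psi S hβ).ker = θ.toHomUnits.ker := by
    ext p
    rw [mem_ker S hβ, MonoidHom.mem_ker, Units.ext_iff (u := θ.toHomUnits p), MonoidHom.coe_toHomUnits]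
    obtain ⟨⟨hf0, hf1⟩, -, hh1, hh2⟩ := (mem_Cq S hβ).1 p.2.2
    show _ ↔ ι ((p.1⁻¹ : Kˣ) : K) * (ι (p.2.1.1 0 0) + ι (p.2.1.1 1 0) * r) = 1
    constructor
    · rintro ⟨-, h⟩
      simp [h, scal_val]
    · intro h
      have h' : ι (p.2.1.1 0 0 - p.1) + ι (p.2.1.1 1 0) * r = 0 := by
        have e : ι (p.1 : K) * ι ((p.1⁻¹ : Kˣ) : K) = 1 := by rw [← map_mul, Units.mul_inv, map_one]
        rw [map_sub]
        linear_combination (ι (p.1 : K)) * h - (ι (p.2.1.1 0 0) + ι (p.2.1.1 1 0) * r) * e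
      obtain ⟨ha, hb⟩ := hind _ _ h'
      rw [sub_eq_zero] at ha
      refine ⟨Units.ext (by rw [Units.val_pow_eq_pow_val, ← ha, hf0]), ?_⟩
      ext i j
      rw [scal_val]
      fin_cases i <;> fin_cases j <;> simp [ha, hb, hh1, hh2]
  have : Finite ↥θ.toHomUnits.range := Finite.of_surjective _ θ.toHomUnits.rangeRestrict_surjective
  have e : ↥(Hsub S hβ) ≃* ↥θ.toHomUnits.range :=
    (QuotientGroup.quotientKerEquivRange (psi S hβ)).symm.trans
      ((QuotientGroup.quotientMulEquivOfEq hker).trans (QuotientGroup.quotientKerEquivRange θ.toHomUnits))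
  refine ⟨e.isCyclic.2 inferInstance, ?_⟩
  have hk : Nat.card ↥(psi S hβ).ker = q - 1 := by
    have h := Set.ncard_sdiff_singleton_of_mem (a := (0 : K)) (s := {a : K | a ^ q = a})
      (zero_pow (by have := S.hq; omega))
    rw [fix_card S, ← Nat.card_coe_set_eq] at h
    rw [← h]
    have hmem : ∀ u : Kˣ, u ^ q = u → scal u ∈ Cq S hβ := fun u hu => by
      have hu' : (u : K) ^ q = u := by rw [← Units.val_pow_eq_pow_val, hu]
      refine (mem_Cq S hβ).2 ⟨⟨?_, ?_⟩, (mem_glk S).2 fun i j => ?_, ?_, ?_⟩ <;>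
        simp only [scal_val]
      · simpa using hu'
      · simpa using (show q ≠ 0 by have := S.hq; omega)
      · fin_cases i <;> fin_cases j <;> simp [hu', zero_pow (show q ≠ 0 by have := S.hq; omega)]
      · simp
      · simp
    have hsd : ∀ a : ↥({a : K | a ^ q = a} \ {0}), a.1 ^ q = a.1 ∧ a.1 ≠ 0 := fun a => ⟨a.2.1, a.2.2⟩
    refine Nat.card_congr
      { toFun := fun p => ⟨(p.1.1 : K), by
          rw [Set.mem_sdiff, Set.mem_ofPred_eq, ← Units.val_pow_eq_pow_val, ((mem_ker S hβ).1 p.2).1]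
          exact ⟨rfl, fun h => (p.1.1).ne_zero h⟩⟩
        invFun := fun a => ⟨(Units.mk0 a.1 (hsd a).2, ⟨_, hmem (Units.mk0 a.1 (hsd a).2) (Units.ext ((Units.val_pow_eq_pow_val _ q).trans (hsd a).1))⟩),
          (mem_ker S hβ).2 ⟨Units.ext ((Units.val_pow_eq_pow_val _ q).trans (hsd a).1), rfl⟩⟩
        left_inv := fun p => Subtype.ext (Prod.ext (Units.ext rfl) (Subtype.ext (by
          have h := ((mem_ker S hβ).1 p.2).2
          show scal _ = _
          rw [h]
          congr 1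
          exact Units.ext rfl)))
        right_inv := fun a => rfl }
  have h1 := Subgroup.card_eq_card_quotient_mul_card_subgroup (psi S hβ).ker
  rw [Nat.card_congr (QuotientGroup.quotientKerEquivRange (psi S hβ)).toEquiv, hk, Nat.card_prod,
    Nat.card_units, S.hK, card_Cq S hβq hβ] at h1
  show Nat.card ↥(psi S hβ).range = _
  have := S.hq
  refine Nat.eq_of_mul_eq_mul_right (show 0 < q - 1 by omega) ?_
  rw [← h1, show q ^ 2 - 1 = (q + 1) * (q - 1) by rw [← Nat.sq_sub_sq, one_pow], mul_assoc]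

end Field

end Cfsg.Agent.Small.D4Torus
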