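import Cfsg.Agent.Lib.Small.D4Torus.Cent

/-!
The centraliser of the torus in ³D₄(2), through the action on three root vectors.
-/

set_option autoImplicit false
set_option maxRecDepth 4000
set_option linter.unusedSectionVars false

namespace Cfsg.Agent.Small.D4Torus

open Cfsg.Lie Matrix Cfsg.Agent.Lie
open Cfsg.Agent.Lie.D4 (Setup neZero_rank Os ws okPi_ws)
open scoped MatrixGroups

local notation "GD" => GL chevD4.Idx
local notation "M3" => Matrix (Fin 3) (Fin 3) (ZMod 2)

/-- Three roots with the same central character. -/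
def cls : Fin 3 → ℕ := ![18, 19, 6]

/-- The matrices of the root elements on the three root vectors. -/
def mx (r : ℕ) : M3 := fun i j =>
  (if i = j then 1 else 0) + (if (chevD4.chainEntry r (cls j)).map Prod.fst = [cls i] then 1 else 0)

theorem mx_ok : ∀ r ∈ [14, 22, 23, 9], ∀ j : Fin 3, cls j ≠ r ∧ cls j ≠ chevD4.neg r ∧
    (chevD4.chainEntry r (cls j) = [] ∨ ∃ i : Fin 3, chevD4.chainEntry r (cls j) = [(cls i, 1)] ∨
      chevD4.chainEntry r (cls j) = [(cls i, -1)]) := by decide +kernel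

theorem cls_inj : ∀ i j : Fin 3, cls i = cls j → i = j := by decide

theorem cls_char : ∀ j : Fin 3, (7 : ℤ) ∣ ev 2 (eC (cls j)) - 4 := by decide +kernel

theorem stab_list : ∀ a : Fin ws.length, a.val ∈ [0, 1, 6, 7, 8, 9] ∨ ∃ r : Fin 24, ¬ (7 : ℤ) ∣ ev 2 (dC a r.val) := by
  decide +kernel

theorem stab_cls : ∀ a : Fin ws.length, a.val ∈ [0, 1, 6, 7, 8, 9] → ∀ j : Fin 3, ∃ i : Fin 3, act a (cls j) = cls i := by
  decide +kernel

theorem triv_roots : ∀ r ∈ Facts.posL chevD4, (7 : ℤ) ∣ ev 2 (eC r) → r ∈ [14, 22, 23] := by decide +kernel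

theorem triv_roots_ok : ∀ r ∈ [14, 22, 23], graphD4a.img r = r ∧ graphD4a.sign r = 1 ∧ (7 : ℤ) ∣ ev 2 (eC r) := by
  decide +kernel

/-- The matrix of a code. -/
def mcode (c : Fin ws.length × (Bool × Bool × Bool) × (Bool × Bool × Bool)) : M3 :=
  (if c.2.1.1 then mx 14 else 1) * (if c.2.1.2.1 then mx 22 else 1) * (if c.2.1.2.2 then mx 23 else 1) *
    Matrix.of (fun i j => if act c.1 (cls j) = cls i then 1 else 0) *
    ((if c.2.2.1 then mx 14 else 1) * (if c.2.2.2.1 then mx 22 else 1) * (if c.2.2.2.2 then mx 23 else 1))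

/-- The codes commuting with the element of order three. -/
def goodCodes : Finset (Fin ws.length × (Bool × Bool × Bool) × (Bool × Bool × Bool)) :=
  Finset.univ.filter fun c => c.1.val ∈ [0, 1, 6, 7, 8, 9] ∧ (c.2.2.1 = true → act c.1 14 < 12) ∧
    (c.2.2.2.1 = true → act c.1 22 < 12) ∧ (c.2.2.2.2 = true → act c.1 23 < 12) ∧
    mcode c * (mx 14 * mx 9) = mx 14 * mx 9 * mcode c

theorem card_goodCodes : goodCodes.card = 3 := by decide +kernel

variable {K : Type*} [Field K] [Fintype K] (S : Setup K 2)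

include S in
theorem two_zero : (2 : K) = 0 := by
  have h := map_add S.T.fr 1 1
  rw [map_one, S.hfr] at h
  linear_combination h

include S in
theorem fix_zero_one {t : K} (h : t ^ 2 = t) : t = 0 ∨ t = 1 := by
  rcases mul_eq_zero.1 (show t * (t - 1) = 0 by linear_combination h) with h | h
  · exact Or.inl h
  · exact Or.inr (sub_eq_zero.1 h)

variable [CharP K 2]

/-- The cast. -/
def cst : ZMod 2 →+* K := ZMod.castHom (dvd_refl 2) K

/-- An element acting on the three root vectors by a scalar times a matrix. -/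
def Acts (g : GD K) (l : K) (M : M3) : Prop :=
  ∀ j, (g : Matrix chevD4.Idx chevD4.Idx K) *ᵥ eR chevD4 K (cls j) =
    l • ∑ i, (cst (M i j) : K) • eR chevD4 K (cls i)

theorem Acts.mul {g g' : GD K} {l l' : K} {M M' : M3} (h : Acts g l M) (h' : Acts g' l' M') :
    Acts (g * g') (l * l') (M * M') := by
  intro j
  rw [Units.val_mul, ← Matrix.mulVec_mulVec, h' j, Matrix.mulVec_smul, Matrix.mulVec_sum]
  simp only [Matrix.mulVec_smul, h _, Matrix.mul_apply, map_sum, map_mul, Finset.smul_sum, Finset.sum_smul, smul_smul]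
  rw [Finset.sum_comm]
  refine Finset.sum_congr rfl fun i _ => Finset.sum_congr rfl fun k _ => ?_
  congr 1
  ring

theorem Acts.one : Acts (1 : GD K) 1 (1 : M3) := by
  intro j
  rw [Units.val_one, Matrix.one_mulVec, one_smul, Finset.sum_eq_single j (fun i _ h => by simp [Matrix.one_apply_ne h])
    (by simp), Matrix.one_apply_eq, map_one, one_smul]

theorem Acts.xg {r : ℕ} (hr : r ∈ [14, 22, 23, 9]) : Acts (factsD4.xg r (1 : K)) 1 (mx r) := by
  intro j
  obtain ⟨h1, h2, h⟩ := mx_ok r hr j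
  have hlt : r < 24 := by simp at hr; omega
  have hj : cls j < chevD4.nroots := (by decide +kernel : ∀ j : Fin 3, cls j < chevD4.nroots) j
  rw [factsD4.coe_xg, x_mulVec_other factsD4 r hlt 1 (cls j) hj h1 h2, one_smul, chainVec]
  simp only [mx, map_add, add_smul, Finset.sum_add_distrib]
  congr 1
  · simp
  rcases h with h | ⟨i, h | h⟩
  · simp [h]
  all_goals
    rw [h, Finset.sum_eq_single i (fun k _ hk => ?_) (by simp)]
    · simp [CharTwo.neg_eq]
    · have : cls i ≠ cls k := fun e => hk (cls_inj _ _ e).symm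
      simp [this]

theorem nw_mulVec (ω : List (Fin chevD4.rank)) (s : ℕ) (hs : s < chevD4.nroots) :
    ((factsD4.tsys K).nw ω : Matrix chevD4.Idx chevD4.Idx K) *ᵥ eR chevD4 K s =
      eR chevD4 K (actR chevD4 (ω.map Fin.val) s) ∧ actR chevD4 (ω.map Fin.val) s < chevD4.nroots := by
  induction ω with
  | nil => exact ⟨by rw [TorusSys.nw_nil, Units.val_one, Matrix.one_mulVec]; rfl, hs⟩
  | cons i ω ih =>
    refine ⟨?_, factsD4.refl_lt i.val i.isLt _ ih.2⟩
    rw [TorusSys.nw_cons, Units.val_mul, ← Matrix.mulVec_mulVec, ih.1, factsD4.tsys_nS, factsD4.coe_ng,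
      factsD4.nMat_mulVec_one_eR i.val i.isLt _ ih.2]
    rcases factsD4.eta_sign i.val i.isLt _ ih.2 with h | h <;>
      simp only [actR, List.map_cons, List.foldr_cons, Facts.sgn] at h ⊢ <;> simp [h, CharTwo.neg_eq]

theorem Acts.nw {a : Fin ws.length} (ha : a.val ∈ [0, 1, 6, 7, 8, 9]) :
    Acts ((factsD4.tsys K).nw (orbN a)) 1 (Matrix.of fun i j => if act a (cls j) = cls i then 1 else 0) := by
  intro j
  obtain ⟨i, hi⟩ := stab_cls a ha j
  rw [(nw_mulVec (orbN a) (cls j) ((by decide +kernel : ∀ j : Fin 3, cls j < chevD4.nroots) j)).1, one_smul,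
    show actR chevD4 ((orbN a).map Fin.val) (cls j) = act a (cls j) from rfl, hi,
    Finset.sum_eq_single i (fun k _ hk => ?_) (by simp)]
  · rw [Matrix.of_apply, if_pos hi, map_one, one_smul]
  · have : cls i ≠ cls k := fun e => hk (cls_inj _ _ e).symm
    rw [Matrix.of_apply, if_neg (fun e => this (hi.symm.trans e)), map_zero, zero_smul]

include S in
theorem pow_seven (u : Kˣ) {e : ℤ} (he : (7 : ℤ) ∣ e) : u ^ e = 1 := by
  obtain ⟨k, rfl⟩ := he
  have h : Nat.card Kˣ = 7 := by rw [Nat.card_units, S.hK]; rfl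
  have h7 : u ^ (7 : ℕ) = 1 := by rw [← h]; exact pow_card_eq_one'
  rw [_root_.zpow_mul, zpow_ofNat, h7, _root_.one_zpow]

theorem Acts.zz (u : Kˣ) : Acts (zz S u) ((u : K) ^ 4) (1 : M3) := by
  intro j
  rw [zz_apply, tt, coe_torus, diagM_mulVec_eR, Finset.sum_eq_single j (fun i _ h => by simp [Matrix.one_apply_ne h])
    (by simp), Matrix.one_apply_eq, map_one, one_smul, char_z, ← Units.val_pow_eq_pow_val,
    show ev 2 (eC (cls j)) = (ev 2 (eC (cls j)) - 4) + 4 by ring, _root_.zpow_add, pow_seven S u (cls_char j),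
    one_mul, zpow_ofNat]

theorem Acts.unique {g : GD K} {l : K} (hl : l ≠ 0) {M M' : M3} (h : Acts g l M) (h' : Acts g l M') : M = M' := by
  ext i j
  have e := congrFun (smul_right_injective _ hl ((h j).symm.trans (h' j))) (Sum.inr ⟨cls i,
    (by decide +kernel : ∀ j : Fin 3, cls j < chevD4.nroots) i⟩)
  simp only [Finset.sum_apply, Pi.smul_apply, smul_eq_mul, eI_apply, idx_inr, Nat.add_left_cancel_iff] at e
  have hs : ∀ N : M3, ∑ k, (cst (N k j) : K) * (if cls i = cls k then 1 else 0) = cst (N i j) := fun N => by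
    rw [Finset.sum_eq_single i (fun k _ hk => by
      rw [if_neg (fun e => hk (cls_inj _ _ e).symm), mul_zero]) (by simp), if_pos rfl, mul_one]
  rw [hs, hs] at e
  exact (cst (K := K)).injective e

/-- The element of a code. -/
noncomputable def wcode (K : Type*) [Field K]
    (c : Fin ws.length × (Bool × Bool × Bool) × (Bool × Bool × Bool)) : GD K :=
  (if c.2.1.1 then factsD4.xg 14 (1 : K) else 1) * (if c.2.1.2.1 then factsD4.xg 22 (1 : K) else 1) *
      (if c.2.1.2.2 then factsD4.xg 23 (1 : K) else 1) *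
    (factsD4.tsys K).nw (orbN c.1) *
    ((if c.2.2.1 then factsD4.xg 14 (1 : K) else 1) * (if c.2.2.2.1 then factsD4.xg 22 (1 : K) else 1) *
      (if c.2.2.2.2 then factsD4.xg 23 (1 : K) else 1))

theorem Acts.ite {r : ℕ} (hr : r ∈ [14, 22, 23, 9]) (b : Bool) :
    Acts (if b then factsD4.xg r (1 : K) else 1) 1 (if b then mx r else 1) := by
  cases b
  · simpa using Acts.one (K := K)
  · simpa using Acts.xg (K := K) hr

theorem Acts.code {c : Fin ws.length × (Bool × Bool × Bool) × (Bool × Bool × Bool)} (hc : c.1.val ∈ [0, 1, 6, 7, 8, 9]) :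
    Acts (wcode K c) 1 (mcode c) := by
  have h := (((Acts.ite (K := K) (r := 14) (by simp) c.2.1.1).mul (Acts.ite (r := 22) (by simp) c.2.1.2.1)).mul
    (Acts.ite (r := 23) (by simp) c.2.1.2.2)).mul (Acts.nw hc)
  have h' := ((Acts.ite (K := K) (r := 14) (by simp) c.2.2.1).mul (Acts.ite (r := 22) (by simp) c.2.2.2.1)).mul
    (Acts.ite (r := 23) (by simp) c.2.2.2.2)
  simpa [wcode, mcode] using h.mul h'

include S in
theorem posProd {c : ℕ → K} (hc : ∀ r ∈ Facts.posL chevD4, c r ≠ 0 → (7 : ℤ) ∣ ev 2 (eC r))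
    (hf : (factsD4.sys K).prodOver (Facts.posL chevD4) c ∈ S.T.fix) :
    ∃ b : Bool × Bool × Bool, (b.1 = true → c 14 ≠ 0) ∧ (b.2.1 = true → c 22 ≠ 0) ∧ (b.2.2 = true → c 23 ≠ 0) ∧
      (factsD4.sys K).prodOver (Facts.posL chevD4) c =
        (if b.1 then factsD4.xg 14 (1 : K) else 1) * (if b.2.1 then factsD4.xg 22 (1 : K) else 1) *
          (if b.2.2 then factsD4.xg 23 (1 : K) else 1) := by
  classical
  have hq := coef_fix S factsD4.closedList_posL (fun r hr hne =>
    ⟨(triv_roots_ok r (triv_roots r hr (hc r hr hne))).1, (triv_roots_ok r (triv_roots r hr (hc r hr hne))).2.1⟩) hf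
  have hm : ∀ r ∈ [14, 22, 23], r ∈ Facts.posL chevD4 := by decide +kernel
  have key : ∀ r ∈ [14, 22, 23], factsD4.xg r (c r) = if decide (c r = 1) then factsD4.xg r (1 : K) else 1 := by
    intro r hr
    rcases fix_zero_one S (hq r (hm r hr)) with h | h
    · simp [h, factsD4.xg_zero]
    · simp [h]
  refine ⟨(decide (c 14 = 1), decide (c 22 = 1), decide (c 23 = 1)), fun h => ?_, fun h => ?_, fun h => ?_, ?_⟩
  · rw [of_decide_eq_true h]; exact one_ne_zero
  · rw [of_decide_eq_true h]; exact one_ne_zero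
  · rw [of_decide_eq_true h]; exact one_ne_zero
  · rw [prodOver_filter (fun r => decide (r ∈ [14, 22, 23])) fun r hr h => by
      by_contra hne
      exact (of_decide_eq_false h) (triv_roots r hr (hc r hr hne)),
      show (Facts.posL chevD4).filter (fun r => decide (r ∈ [14, 22, 23])) = [14, 22, 23] by decide +kernel]
    simp only [CommSys.prodOver, List.map_cons, List.map_nil, List.prod_cons, List.prod_nil, mul_one, Facts.sys_x,
      key 14 (by simp), key 22 (by simp), key 23 (by simp), mul_assoc]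

variable {β : K} (hβq : β ^ 2 = β) (hβ : ∀ x : K, x * x ≠ x + β)

include S hβq in
theorem Phi_Sb_two : Phi (Sb hβ) = factsD4.xg 14 (1 : K) * factsD4.xg 9 1 := by
  have hb : β = 1 := (fix_zero_one S hβq).resolve_left (beta_ne hβ)
  rw [show Sb hβ = Matrix.SpecialLinearGroup.toGL (upS 1 * loS 1) from ?_, Phi_SL, map_mul, phi_up, phi_lo]
  apply Units.ext
  show !![0, β; 1, 1] = (upS (1 : K) * loS 1).1
  ext i j
  simp only [RankOneRel.entries_mul]
  fin_cases i <;> fin_cases j <;> simp [upS, loS, hb, one_add_one_eq_two, CharTwo.two_eq_zero]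

include hβq in
/-- The centraliser is the torus for q = 2. -/
theorem cent_two {g : GD K} (hg : g ∈ twistedD4 K 2) (hc : ∀ h ∈ Hsub S hβ, Commute h g) : g ∈ Hsub S hβ := by
  classical
  obtain ⟨u0, hu0⟩ := exists_gen S
  have : Finite (GD K) := inferInstance
  let C : Set (GD K) := {g | g ∈ twistedD4 K 2 ∧ ∀ h ∈ Hsub S hβ, Commute h g}
  have hHC : (Hsub S hβ : Set (GD K)) ⊆ C := by
    intro h hh
    refine ⟨Hsub_le S hβ hh, fun h' hh' => ?_⟩
    have := (cyclic_card S hβq hβ).1
    exact congrArg Subtype.val (IsMulCommutative.is_comm.comm (⟨h', hh'⟩ : ↥(Hsub S hβ)) ⟨h, hh⟩)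
  have hCI : C ⊆ ↑((Finset.univ ×ˢ goodCodes).image fun p : Kˣ × _ => zz S p.1 * wcode K p.2) := by
    rintro g ⟨hg, hc⟩
    obtain ⟨a, t, m, cu, cv, hm, hstab, hcu, hcv, huf, hvf, rfl⟩ :=
      cent_form S hu0 hg (hc _ (zz_mem_H S hβq hβ u0))
    norm_num at hstab hcu hcv
    have ha : a.val ∈ [0, 1, 6, 7, 8, 9] := (stab_list a).resolve_right fun ⟨r, hr⟩ => hr (hstab r.val r.isLt)
    have hm1 : m = 1 := by
      ext1
      have := congrArg Units.val hm
      rw [Units.val_pow_eq_pow_val] at this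
      exact (fix_zero_one S this).resolve_left m.ne_zero
    obtain ⟨u, hu⟩ : ∃ u : Kˣ, zz S u = tt S t m := by
      refine ⟨(t ^ 2) ^ 2, ?_⟩
      rw [zz_apply, pow_cube' S t, hm1]
      congr 1
      ext1
      have := congrArg Units.val (nrm_fix S ((t ^ 2) ^ 2))
      rw [Units.val_pow_eq_pow_val] at this
      exact (fix_zero_one S this).resolve_left (Units.ne_zero _)
    obtain ⟨bu, -, -, -, heu⟩ := posProd S hcu huf
    obtain ⟨bv, hv1, hv2, hv3, hev⟩ := posProd S (fun r hr hne => (hcv r hr hne).1) hvf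
    have hzu : Commute (zz S u) ((factsD4.sys K).prodOver (Facts.posL chevD4) cu) := by
      refine mul_inv_eq_iff_eq_mul.1 ?_
      rw [zz_apply, tt, factsD4.torus_conj_prodOver _ fun r hr => (Facts.mem_posL.1 hr).2]
      refine CommSys.prodOver_congr _ fun r hr => ?_
      by_cases h0 : cu r = 0
      · rw [h0, mul_zero]
      · rw [char_z, pow_seven S u (hcu r hr h0), Units.val_one, one_mul]
    have hgeq : (factsD4.sys K).prodOver (Facts.posL chevD4) cu * (tt S t m * (factsD4.tsys K).nw (orbN a)) *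
        (factsD4.sys K).prodOver (Facts.posL chevD4) cv = zz S u * wcode K (a, bu, bv) := by
      rw [← hu, ← mul_assoc, ← hzu.eq, heu, hev]
      simp only [wcode, mul_assoc]
    rw [hgeq] at hc ⊢
    refine Finset.mem_coe.2 (Finset.mem_image.2 ⟨(u, (a, bu, bv)), ?_, rfl⟩)
    have hm' : ∀ r ∈ [14, 22, 23], r ∈ Facts.posL chevD4 := by decide +kernel
    simp only [Finset.mem_product, Finset.mem_univ, true_and, goodCodes, Finset.mem_filter]
    refine ⟨ha, fun h => (hcv 14 (hm' 14 (by simp)) (hv1 h)).2, fun h => (hcv 22 (hm' 22 (by simp)) (hv2 h)).2,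
      fun h => (hcv 23 (hm' 23 (by simp)) (hv3 h)).2, ?_⟩
    have hs := hc _ (Phi_Sb_mem_H S hβq hβ)
    rw [Phi_Sb_two S hβq hβ] at hs
    have hA := (Acts.zz S u).mul (Acts.code (K := K) (c := (a, bu, bv)) ha)
    have hB := (Acts.xg (K := K) (r := 14) (by simp)).mul (Acts.xg (r := 9) (by simp))
    have h1 := hA.mul hB
    have h2 := hB.mul hA
    rw [hs.eq] at h2
    simp only [mul_one, one_mul] at h1 h2
    exact Acts.unique (pow_ne_zero 4 u.ne_zero) h1 h2
  have hfin : C.Finite := Set.toFinite _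
  have hle : C.ncard ≤ (Hsub S hβ : Set (GD K)).ncard := by
    refine (Set.ncard_le_ncard hCI (Finset.finite_toSet _)).trans ?_
    rw [Set.ncard_coe_finset, ← Nat.card_coe_set_eq]
    refine Finset.card_image_le.trans ?_
    rw [Finset.card_product, Finset.card_univ, ← Nat.card_eq_fintype_card, Nat.card_units, card_goodCodes, S.hK]
    exact (cyclic_card S hβq hβ).2.ge
  have e := Set.eq_of_subset_of_ncard_le hHC hle hfin
  exact (Set.ext_iff.1 e g).2 ⟨hg, hc⟩

end Cfsg.Agent.Small.D4Torus
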